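import Mathlib.Data.Nat.Notation
import Cfsg.Agent.KFacts.MM.OutAut
import Cfsg.Agent.KFacts.MM.OutC
import Mathlib
import Cfsg.Agent.SporadicA.MathieuRecog
import Cfsg.Agent.OddHalf.MM.Sheet
import Cfsg.Agent.Omega.EH3.Row
import Cfsg.Agent.J4Type.Base
import Cfsg.Agent.LargeExtra.Nine.ToCent
import Cfsg.Agent.Omega.EH3.Of
import Cfsg.Agent.Mrg.Omega.EH3.Start
import Cfsg.Agent.J4Type.Top
import Cfsg.Prelude.Def_Spor_J4

-- merged: Cfsg.Agent.Omega.EH3.M22.Data
section

/-!
# EH3, row `M22`: packed permutations (helper969)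
-/

set_option autoImplicit false

namespace Cfsg.Agent.Omega.EH3.M22.Data

/-- 14 elements of `M22`: the images of `{1, 2}` have a nonsingular Gram matrix -/
def gL : List ℕ := [
  984818244535754528103549039458486304,
  978849776793746787003199209847952512,
  964917275015465983328979098502060288,
  959488121765741971576315097446923328,
  958680300350658557014491635208400000,
  962181843392822456857993199022910752,
  977873459788756747090460192959189376,
  972831183423135738047482258258969824,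
  981548855918831466312872223757817952,
  975432048167086924000780457170358592,
  968529989081359269986843285947794848,
  980230174638112935304648454281237536,
  980941609419512200297601387847928160,
  964575877489034909648712673258719680]

/-- their inverses -/
def gI : List ℕ := [
  984818244535754528103549039458486304,
  978037031292836315431100558662063360,
  958145249025361420566300581352940160,
  969140878942787535055494721949074528,
  967283780959055205374245447744968960,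
  971146663481645628595034434090220960,
  963660839285016846054362667808230688,
  977753577639329575372475643948442720,
  958615858314131288954670734711497344,
  975586692544701069329655715265364096,
  967240365663388409094893161940661408,
  974006555416635264846015297857497120,
  982989123780368889198205883899040064,
  966482331998639978332145482857764000]

/-- elements of `N(W)` in `M22` mapping the second and third tetrad to each pair of tetrads -/
def nL : List ℕ := [
  962535585921315321034233797611684928,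
  962185689677430337975636846473349152,
  962384594219683655028362146471412800,
  962293394058910103839053343018813472,
  972560062960302233497009465070158912,
  972770454313256898457466314500375616,
  972889687204525603450923042908374080,
  964974399875705615325766390902981696,
  964903279098970443474231158672458816,
  970089251429018547405046440970617920]

/-- an element of `M22` mapping 1 to 4 and 2 to 6 -/
def e0P : ℕ := 976585783686182297604407674404313216

/-- the rows of the Gram matrix -/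
def gM : List ℕ := [9718, 14317, 15539, 15858, 11213, 10191, 15803, 15231, 15099, 11698, 14959, 14300, 3534, 4095]

/-- the rows of its inverse -/
def bM : List ℕ := [4600, 3748, 1458, 12321, 13541, 11551, 8593, 13399, 12389, 14338, 10422, 9762, 9113, 8184]

end Cfsg.Agent.Omega.EH3.M22.Data

end

-- merged: Cfsg.Agent.Omega.EH3.M22.Perm
section

/-!
# EH3, row `M22`: duads (helper969)

`N(W)` in `M22` is the stabiliser of the duad `{1, 2}`. `c160 g`: the duads `{1, 2}` and `g{1, 2}` are disjoint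
and their union is not contained in a hexad.
-/

set_option autoImplicit false
set_option Elab.async false

namespace Cfsg.Agent.Omega.EH3.M22.Perm

open Cfsg Cfsg.Agent.KFacts.MM.El Cfsg.Agent.KFacts.MM.Data Cfsg.Agent.KFacts.MM.DataO
open Cfsg.Agent.KFacts.MM.DataT Cfsg.Agent.KFacts.MM.Sub Cfsg.Agent.KFacts.MM.Int
open Cfsg.Agent.KFacts.MM.El16 Cfsg.Agent.KFacts.MM.Cent Cfsg.Agent.KFacts.MM.OutP
open Cfsg.Agent.KFacts.MM.OutT Cfsg.Agent.KFacts.MM.OutN
open Cfsg.Agent.SporadicA.GolayBase Cfsg.Agent.SporadicA.GolayPerm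
open Cfsg.Agent.J4Type.Aut22 (D22 mem_D22_iff M22_le_D22 mem_M22_iff_D22 card_D22)
open Cfsg.Agent.OddHalf.MM (Nrm Cen El)
open Cfsg.Agent.Omega.EH3.M22.Data
open scoped Pointwise

/-! ### `W` as a group of tetrad preserving permutations -/

theorem mem_W_of_T {g : Equiv.Perm GolayPt} (hg : g ∈ Spor.M22)
    (hT : ∀ i < 24, T i ≠ 5 → T (val g i) = T i) : g ∈ W := by
  have k1 : T 4 ≠ 5 ∧ T 6 ≠ 5 := by decide +kernel
  have k3 : (pts.all fun q => pts.all fun r => !(Nat.beq (T q) (T 4) && Nat.beq (T r) (T 6)) ||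
      WL.any fun P => Nat.beq (papp P 4) q && Nat.beq (papp P 6) r) = true := by decide +kernel
  have k4 := List.all_eq_true.1 (List.all_eq_true.1 k3 _ (mem_pts (val_lt g 4))) _
    (mem_pts (val_lt g 6))
  rw [hT 4 (by norm_num) k1.1, hT 6 (by norm_num) k1.2, Nat.beq_refl, Nat.beq_refl, Bool.and_true,
    Bool.not_true, Bool.false_or] at k4
  obtain ⟨P, hP, h7⟩ := List.any_eq_true.1 k4
  rw [Bool.and_eq_true] at h7
  have e4 := Nat.eq_of_beq_eq_true h7.1
  have e6 := Nat.eq_of_beq_eq_true h7.2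
  have hPW : pm P ∈ W := ⟨P, hP, rfl⟩
  have hp := pW hP
  have hPP : pm P * pm P = 1 := elW _ hPW
  have hval : ∀ i j, i < 24 → j < 24 → val g i = papp P j → val (pm P * g) i = j := by
    intro i j hi hj e
    rw [val_mul, e, ← val_pm hp hj, ← val_mul, hPP, val_one hj]
  have h1 : pm P * g = 1 := by
    apply eq_one (mul_mem (M22_le24 (W_le22 hPW)) (M22_le24 hg))
    · exact hval 0 0 (by norm_num) (by norm_num) (by
        rw [val0 hg, W_fix (by norm_num) (by decide +kernel) hP])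
    · exact hval 4 4 (by norm_num) (by norm_num) e4.symm
    · exact hval 6 6 (by norm_num) (by norm_num) e6.symm
    · exact hval 23 23 (by norm_num) (by norm_num) (by
        rw [val23 (M22_le23 hg), W_fix (by norm_num) (by decide +kernel) hP])
    · intro i hi h5
      rw [val_mul, val_pm hp (val_lt g i), W_T (WP hP) (val_lt g i), hT i hi h5]
  have h2 : g = pm P := by
    calc g = pm P * pm P * g := by rw [hPP, one_mul]
      _ = pm P := by rw [mul_assoc, h1, mul_one]
  rw [h2]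
  exact hPW

/-! ### The stabiliser of the duad `{1, 2}` -/

/-- the octad of the tetrad `k` and the base tetrad -/
def ok (k : ℕ) : ℕ := match k with
  | 0 => 2 ^ 0 + 2 ^ 1 + 2 ^ 2 + 2 ^ 23 + 2 ^ 3 + 2 ^ 5 + 2 ^ 14 + 2 ^ 17
  | 1 => 2 ^ 0 + 2 ^ 1 + 2 ^ 2 + 2 ^ 23 + 2 ^ 4 + 2 ^ 13 + 2 ^ 16 + 2 ^ 22
  | 2 => 2 ^ 0 + 2 ^ 1 + 2 ^ 2 + 2 ^ 23 + 2 ^ 6 + 2 ^ 7 + 2 ^ 19 + 2 ^ 21
  | 3 => 2 ^ 0 + 2 ^ 1 + 2 ^ 2 + 2 ^ 23 + 2 ^ 8 + 2 ^ 11 + 2 ^ 12 + 2 ^ 18
  | _ => 2 ^ 0 + 2 ^ 1 + 2 ^ 2 + 2 ^ 23 + 2 ^ 9 + 2 ^ 10 + 2 ^ 15 + 2 ^ 20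

theorem ok_oct {k : ℕ} (hk : k < 5) : fin (ok k) ∈ octads := by
  have h : ∀ k < 5, ok k < 2 ^ 24 ∧ isCode (ok k) = true ∧ popcount (ok k) = 8 := by
    decide +kernel
  obtain ⟨h1, h2, h3⟩ := h k hk
  exact (fin_mem_octads_iff h1).2 ⟨h2, h3⟩

theorem mem_ok {k i : ℕ} (hk : k < 5) (hi : i < 24) :
    (ok k).testBit i = true ↔ T i = 5 ∨ T i = k := by
  have h0 : ∀ k < 5, ∀ i < 24, (ok k).testBit i = true ↔ T i = 5 ∨ T i = k := by decide +kernel
  exact h0 k hk i hi

/-- a permutation of `M22` preserving the duad `{1, 2}` preserves the base tetrad -/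
theorem T5_of {g : Equiv.Perm GolayPt} (hg : g ∈ Spor.M22)
    (h : (val g 1 = 1 ∧ val g 2 = 2) ∨ (val g 1 = 2 ∧ val g 2 = 1)) {i : ℕ} (hi : i < 24) :
    T (val g i) = 5 ↔ T i = 5 := by
  have k0 : ∀ i < 24, T i = 5 ↔ i = 0 ∨ i = 1 ∨ i = 2 ∨ i = 23 := by decide +kernel
  have h0 := val0 hg
  have h23 := val23 (M22_le23 hg)
  constructor
  · intro h5
    have h6 := (k0 _ (val_lt g i)).1 h5
    rw [k0 i hi]
    rcases h6 with h6 | h6 | h6 | h6
    · left
      exact val_inj hi (by norm_num) (h6.trans h0.symm)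
    · rcases h with h | h
      · right; left
        exact val_inj hi (by norm_num) (h6.trans h.1.symm)
      · right; right; left
        exact val_inj hi (by norm_num) (h6.trans h.2.symm)
    · rcases h with h | h
      · right; right; left
        exact val_inj hi (by norm_num) (h6.trans h.2.symm)
      · right; left
        exact val_inj hi (by norm_num) (h6.trans h.1.symm)
    · right; right; right
      exact val_inj hi (by norm_num) (h6.trans h23.symm)
  · intro h5
    rw [k0 _ (val_lt g i)]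
    rcases (k0 i hi).1 h5 with rfl | rfl | rfl | rfl
    · exact Or.inl h0
    · rcases h with h | h
      · exact Or.inr (Or.inl h.1)
      · exact Or.inr (Or.inr (Or.inl h.1))
    · rcases h with h | h
      · exact Or.inr (Or.inr (Or.inl h.2))
      · exact Or.inr (Or.inl h.2)
    · exact Or.inr (Or.inr (Or.inr h23))

theorem T_congr_of {g : Equiv.Perm GolayPt} (hg : g ∈ Spor.M22)
    (h : (val g 1 = 1 ∧ val g 2 = 2) ∨ (val g 1 = 2 ∧ val g 2 = 1)) {i j : ℕ} (hi : i < 24)
    (hj : j < 24) (h5 : T i ≠ 5) (hij : T i = T j) : T (val g i) = T (val g j) := by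
  have hl5 : T (val g i) ≠ 5 := fun e => h5 ((T5_of hg h hi).1 e)
  have hl : T (val g i) < 5 := by
    have := T_le (val_lt g i)
    omega
  have hk : T i < 5 := by
    have := T_le hi
    omega
  -- the images of the octads
  have heq : g • fin (ok (T i)) = fin (ok (T (val g i))) := by
    apply octad_unique (SporadicA.M24Frames.smul_mem_octads (M22_le24 hg) (ok_oct hk)) (ok_oct hl)
    have hsub : insert (pt (val g i)) (fin (2 ^ 0 + 2 ^ 1 + 2 ^ 2 + 2 ^ 23)) ⊆
        g • fin (ok (T i)) ∩ fin (ok (T (val g i))) := by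
      intro q hq
      rw [Finset.mem_insert] at hq
      rw [Finset.mem_inter, mem_fin, mem_ok hl (idx_lt q)]
      rcases hq with rfl | hq
      · refine ⟨?_, Or.inr (by rw [idx_pt (val_lt g i)])⟩
        rw [pt_val]
        apply Finset.smul_mem_smul_finset
        rw [mem_fin, idx_pt hi, mem_ok hk hi]
        exact Or.inr rfl
      · rw [mem_fin] at hq
        have h1 : T (idx q) = 5 := by
          have h2 : ∀ i < 24, (2 ^ 0 + 2 ^ 1 + 2 ^ 2 + 2 ^ 23 : ℕ).testBit i = true → T i = 5 := by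
            decide +kernel
          exact h2 _ (idx_lt q) hq
        refine ⟨?_, Or.inl h1⟩
        obtain ⟨r, hr, hr2⟩ := exists_val g (idx_lt q)
        have h3 : q = g • pt r := by
          show q = g (pt r)
          rw [← pt_val, hr2, pt_idx]
        rw [h3]
        apply Finset.smul_mem_smul_finset
        rw [mem_fin, idx_pt hr, mem_ok hk hr]
        left
        rw [← T5_of hg h hr, hr2]
        exact h1
    refine le_trans ?_ (Finset.card_le_card hsub)
    rw [Finset.card_insert_of_notMem, card_fin]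
    · decide +kernel
    · rw [mem_fin, idx_pt (val_lt g i)]
      intro h2
      have h3 : ∀ i < 24, (2 ^ 0 + 2 ^ 1 + 2 ^ 2 + 2 ^ 23 : ℕ).testBit i = true → T i = 5 := by
        decide +kernel
      exact hl5 (h3 _ (val_lt g i) h2)
  have h6 : g • pt j ∈ fin (ok (T (val g i))) := by
    rw [← heq]
    apply Finset.smul_mem_smul_finset
    rw [mem_fin, idx_pt hj, mem_ok hk hj]
    exact Or.inr hij.symm
  rw [mem_fin] at h6
  have h7 : (ok (T (val g i))).testBit (val g j) = true := h6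
  rcases (mem_ok hl (val_lt g j)).1 h7 with h8 | h8
  · exfalso
    apply h5
    rw [hij]
    exact (T5_of hg h hj).1 h8
  · exact h8.symm

/-- the stabiliser of the duad `{1, 2}` normalises `W` -/
theorem nrm_of_duad {g : Equiv.Perm GolayPt} (hg : g ∈ Spor.M22)
    (h : (val g 1 = 1 ∧ val g 2 = 2) ∨ (val g 1 = 2 ∧ val g 2 = 1)) : Nrm g W := by
  apply nrm_of
  intro w hw
  apply mem_W_of_T (mul_mem (mul_mem hg (W_le22 hw)) (inv_mem hg))
  intro i hi h5
  obtain ⟨j, hj, hji⟩ := exists_val g hi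
  have hinv : val g⁻¹ i = j := by
    rw [← hji, ← val_mul, inv_mul_cancel, val_one hj]
  have hj5 : T j ≠ 5 := by
    intro e
    apply h5
    rw [← hji]
    exact (T5_of hg h hj).2 e
  rw [val_mul, val_mul, hinv]
  have h1 := T_P (W_le_P hw) hj
  rw [← hji]
  exact (T_congr_of hg h hj (val_lt w j) hj5 h1.symm).symm

/-- the normaliser of `W` preserves the duad `{1, 2}` -/
theorem duad_of_nrm {g : Equiv.Perm GolayPt} (hg : g ∈ Spor.M22) (hN : Nrm g W) :
    (val g 1 = 1 ∧ val g 2 = 2) ∨ (val g 1 = 2 ∧ val g 2 = 1) := by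
  have key : ∀ i, i < 24 → T i = 5 → T (val g i) = 5 := by
    intro i hi h5
    by_contra hne
    obtain ⟨P, hP, h1⟩ := W_mv (val_lt g i) hne
    have hPW : pm P ∈ W := ⟨P, hP, rfl⟩
    have h2 : g⁻¹ * pm P * g ∈ W := nrm_inv hN hPW
    obtain ⟨R, hR, h3⟩ := h2
    apply h1
    rw [← val_pm (pW hP) (val_lt g i), ← val_mul]
    have h4 : pm P * g = g * pm R := by
      rw [h3]
      group
    rw [h4, val_mul, val_pm (pW hR) hi, W_fix hi h5 hR]
  have k0 : ∀ i < 24, T i = 5 ↔ i = 0 ∨ i = 1 ∨ i = 2 ∨ i = 23 := by decide +kernel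
  have h0 := val0 hg
  have h23 := val23 (M22_le23 hg)
  have h1 := (k0 _ (val_lt g 1)).1 (key 1 (by norm_num) (by decide +kernel))
  have h2 := (k0 _ (val_lt g 2)).1 (key 2 (by norm_num) (by decide +kernel))
  have n10 : val g 1 ≠ 0 := fun e => by
    have := val_inj (by norm_num) (by norm_num) (e.trans h0.symm)
    omega
  have n123 : val g 1 ≠ 23 := fun e => by
    have := val_inj (by norm_num) (by norm_num) (e.trans h23.symm)
    omega
  have n20 : val g 2 ≠ 0 := fun e => by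
    have := val_inj (by norm_num) (by norm_num) (e.trans h0.symm)
    omega
  have n223 : val g 2 ≠ 23 := fun e => by
    have := val_inj (by norm_num) (by norm_num) (e.trans h23.symm)
    omega
  have n12 : val g 1 ≠ val g 2 := fun e => by
    have := val_inj (by norm_num) (by norm_num) e
    omega
  omega

/-- normalising `W` and normalising `P` are the same -/
theorem nrm_P_iff {g : Equiv.Perm GolayPt} (hg : g ∈ D22) : Nrm g P ↔ Nrm g W := by
  constructor
  · intro h
    apply nrm_of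
    intro x hx
    apply PK ((h x).2 (W_le_P hx))
    exact KFacts.MM.OutAut.conj_mem22 hg (W_le22 hx)
  · intro h
    apply nrm_of
    intro x hx
    apply CW' (mul_mem (mul_mem hg (P_le hx)) (inv_mem hg))
    intro y hy
    have h1 : g⁻¹ * y * g ∈ W := nrm_inv h hy
    have h2 : x * (g⁻¹ * y * g) = (g⁻¹ * y * g) * x := comm_of_El elP hx (W_le_P h1)
    calc g * x * g⁻¹ * y = g * (x * (g⁻¹ * y * g)) * g⁻¹ := by group
      _ = g * ((g⁻¹ * y * g) * x) * g⁻¹ := by rw [h2]
      _ = y * (g * x * g⁻¹) := by group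

/-! ### The relation -/

/-- the duads `{1, 2}` and `g{1, 2}` are disjoint and not in a common hexad -/
def c160 (g : Equiv.Perm GolayPt) : Prop :=
  T (val g 1) ≠ 5 ∧ T (val g 2) ≠ 5 ∧ T (val g 1) ≠ T (val g 2)

theorem of_not_c160 {g : Equiv.Perm GolayPt} (hg : g ∈ Spor.M22) (h : ¬ c160 g) :
    ∃ x ∈ W, x ≠ 1 ∧ Nrm (g⁻¹ * x * g) W := by
  have k0 : (pts.all fun i => pts.all fun j => (!Nat.beq (T i) 5 && (!Nat.beq (T j) 5 &&
      !Nat.beq (T i) (T j))) || WL.any fun P => !weq [P] [] && (Nat.beq (papp P i) i &&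
      Nat.beq (papp P j) j)) = true := by decide +kernel
  have k1 := List.all_eq_true.1 (List.all_eq_true.1 k0 _ (mem_pts (val_lt g 1))) _
    (mem_pts (val_lt g 2))
  rw [Bool.or_eq_true] at k1
  rcases k1 with k1 | k1
  · exfalso
    apply h
    rw [Bool.and_eq_true, Bool.and_eq_true, Bool.not_eq_true', Bool.not_eq_true',
      Bool.not_eq_true'] at k1
    refine ⟨fun e => ?_, fun e => ?_, fun e => ?_⟩
    · rw [e] at k1
      exact absurd k1.1 (by decide)
    · rw [e] at k1
      exact absurd k1.2.1 (by decide)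
    · rw [e, Nat.beq_refl] at k1
      exact absurd k1.2.2 (by decide)
  · obtain ⟨P, hP, k2⟩ := List.any_eq_true.1 k1
    rw [Bool.and_eq_true, Bool.and_eq_true, Bool.not_eq_true'] at k2
    obtain ⟨k3, k4, k5⟩ := k2
    have hPW : pm P ∈ W := ⟨P, hP, rfl⟩
    have hp := pW hP
    refine ⟨pm P, hPW, ?_, ?_⟩
    · intro e
      apply pr_ne (l := [P]) (m := []) (okl1 hp) rfl k3
      rw [pr_one, pr_nil, e]
    · have key : ∀ i, i < 24 → papp P (val g i) = val g i → val (g⁻¹ * pm P * g) i = i := by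
        intro i hi e
        rw [val_mul, val_mul, val_pm hp (val_lt g i), e, ← val_mul, inv_mul_cancel, val_one hi]
      exact nrm_of_duad (mul_mem (mul_mem (inv_mem hg) (W_le22 hPW)) hg)
        (Or.inl ⟨key 1 (by norm_num) (Nat.eq_of_beq_eq_true k4),
          key 2 (by norm_num) (Nat.eq_of_beq_eq_true k5)⟩)

end Cfsg.Agent.Omega.EH3.M22.Perm

end

-- merged: Cfsg.Agent.Omega.EH3.M22.Gram
section

/-!
# EH3, row `M22`: the Gram matrix and the elementary abelian subgroups of order 32 (helper969)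
-/

set_option autoImplicit false
set_option Elab.async false

namespace Cfsg.Agent.Omega.EH3.M22.Gram

open Cfsg Cfsg.Agent.KFacts.MM.El Cfsg.Agent.KFacts.MM.Data Cfsg.Agent.KFacts.MM.DataO
open Cfsg.Agent.KFacts.MM.DataT Cfsg.Agent.KFacts.MM.Sub Cfsg.Agent.KFacts.MM.Int
open Cfsg.Agent.KFacts.MM.El16 Cfsg.Agent.KFacts.MM.Cent Cfsg.Agent.KFacts.MM.OutP
open Cfsg.Agent.KFacts.MM.OutT Cfsg.Agent.KFacts.MM.OutN Cfsg.Agent.KFacts.MM.OutS
open Cfsg.Agent.SporadicA.GolayBase Cfsg.Agent.SporadicA.GolayPerm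
open Cfsg.Agent.J4Type.Aut22 (D22 mem_D22_iff M22_le_D22 mem_M22_iff_D22 card_D22)
open Cfsg.Agent.OddHalf.MM (Nrm Cen El)
open Cfsg.Agent.Omega.EH3.M22.Data Cfsg.Agent.Omega.EH3.M22.Perm

/-! ### The double coset -/

/-- the representative -/
noncomputable def g0 : Equiv.Perm GolayPt := pm e0P

theorem g0_ok : ok22 e0P = true ∧ papp e0P 1 = 4 ∧ papp e0P 2 = 6 := by decide +kernel

theorem g0_mem : g0 ∈ Spor.M22 := (mem_of_ok22 g0_ok.1).2

theorem g0_1 : val g0 1 = 4 := by
  unfold g0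
  rw [val_pm (mem_of_ok22 g0_ok.1).1 (by norm_num), g0_ok.2.1]

theorem g0_2 : val g0 2 = 6 := by
  unfold g0
  rw [val_pm (mem_of_ok22 g0_ok.1).1 (by norm_num), g0_ok.2.2]

/-- the test for a pair of points -/
def ptst (i j : ℕ) : Bool :=
  !(!Nat.beq (T i) 5 && (!Nat.beq (T j) 5 && !Nat.beq (T i) (T j))) || nL.any fun n => WL.any fun w =>
    (Nat.beq (papp w (papp n 4)) i && Nat.beq (papp w (papp n 6)) j) ||
    (Nat.beq (papp w (papp n 4)) j && Nat.beq (papp w (papp n 6)) i)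

theorem ptst_all : (pts.all fun i => pts.all fun j => ptst i j) = true := by decide +kernel

theorem nL_all : (nL.all fun n => ok22 n && cj [n] WL) = true := by decide +kernel

theorem exists_rep {g : Equiv.Perm GolayPt} (h : c160 g) : ∃ y ∈ Spor.M22, Nrm y W ∧
    ((val y 4 = val g 1 ∧ val y 6 = val g 2) ∨ (val y 4 = val g 2 ∧ val y 6 = val g 1)) := by
  have k1 := List.all_eq_true.1 (List.all_eq_true.1 ptst_all _ (mem_pts (val_lt g 1))) _
    (mem_pts (val_lt g 2))
  unfold ptst at k1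
  have nb : ∀ {a c : ℕ}, a ≠ c → Nat.beq a c = false := by
    intro a c hac
    rw [Bool.eq_false_iff]
    intro e
    exact hac (Nat.eq_of_beq_eq_true e)
  rw [nb h.1, nb h.2.1, nb h.2.2, Bool.not_false, Bool.and_true, Bool.and_true, Bool.not_true,
    Bool.false_or] at k1
  obtain ⟨n, hn, k2⟩ := List.any_eq_true.1 k1
  obtain ⟨w, hw, k3⟩ := List.any_eq_true.1 k2
  have k4 := List.all_eq_true.1 nL_all n hn
  rw [Bool.and_eq_true] at k4
  obtain ⟨hp, hM⟩ := mem_of_ok22 k4.1
  have hwW : pm w ∈ W := ⟨w, hw, rfl⟩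
  have hv : ∀ i, i < 24 → val (pm w * pm n) i = papp w (papp n i) := by
    intro i hi
    rw [val_mul, val_pm hp hi, val_pm (pW hw) (papp_lt hp hi)]
  refine ⟨pm w * pm n, mul_mem (W_le22 hwW) hM, nrm_mul (nrm_P (W_le_P hwW))
    (KFacts.MM.Tr.nrm_of_cj hp k4.2), ?_⟩
  rw [hv 4 (by norm_num), hv 6 (by norm_num)]
  rw [Bool.or_eq_true, Bool.and_eq_true, Bool.and_eq_true] at k3
  rcases k3 with k3 | k3
  · exact Or.inl ⟨Nat.eq_of_beq_eq_true k3.1, Nat.eq_of_beq_eq_true k3.2⟩
  · exact Or.inr ⟨Nat.eq_of_beq_eq_true k3.1, Nat.eq_of_beq_eq_true k3.2⟩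

theorem val_inv {g : Equiv.Perm GolayPt} {i j : ℕ} (hi : i < 24) (h : val g i = j) : val g⁻¹ j = i := by
  rw [← h, ← val_mul, inv_mul_cancel, val_one hi]

/-- `{g : c160 g}` is one double coset of `N(W)` in `M22` -/
theorem dbl {g : Equiv.Perm GolayPt} (hg : g ∈ Spor.M22) (h : c160 g) :
    ∃ y ∈ Spor.M22, Nrm y W ∧ ∃ m ∈ Spor.M22, Nrm m W ∧ g = y * g0 * m := by
  obtain ⟨y, hy, hN, h1⟩ := exists_rep h
  have hm : g0⁻¹ * y⁻¹ * g ∈ Spor.M22 := mul_mem (mul_mem (inv_mem g0_mem) (inv_mem hy)) hg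
  refine ⟨y, hy, hN, g0⁻¹ * y⁻¹ * g, hm, ?_, by group⟩
  apply nrm_of_duad hm
  rw [val_mul, val_mul, val_mul, val_mul]
  rcases h1 with h1 | h1
  · left
    rw [val_inv (by norm_num) h1.1, val_inv (by norm_num) h1.2]
    exact ⟨val_inv (by norm_num) g0_1, val_inv (by norm_num) g0_2⟩
  · right
    rw [val_inv (by norm_num) h1.1, val_inv (by norm_num) h1.2]
    exact ⟨val_inv (by norm_num) g0_2, val_inv (by norm_num) g0_1⟩

/-! ### The Gram matrix -/

/-- the test for a word -/
def c160t (l : List ℕ) : Bool :=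
  !Nat.beq (T (ev l 1)) 5 && (!Nat.beq (T (ev l 2)) 5 && !Nat.beq (T (ev l 1)) (T (ev l 2)))

theorem c160_iff {l : List ℕ} (hl : okl l = true) : c160 (pr l) ↔ c160t l = true := by
  unfold c160 c160t
  rw [val_pr hl (by norm_num), val_pr hl (by norm_num), Bool.and_eq_true, Bool.and_eq_true,
    Bool.not_eq_true', Bool.not_eq_true', Bool.not_eq_true']
  have nb : ∀ {a c : ℕ}, Nat.beq a c = false ↔ a ≠ c := by
    intro a c
    rw [Bool.eq_false_iff]
    exact ⟨fun h e => h (by rw [e]; exact Nat.beq_refl _), fun h e => h (Nat.eq_of_beq_eq_true e)⟩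
  rw [nb, nb, nb]

/-- the elements -/
noncomputable def gg (i : Fin 14) : Equiv.Perm GolayPt := pm (gL.getD i 0)

theorem gL_all : ∀ i : Fin 14, ok22 (gL.getD i 0) = true ∧ isPerm (gI.getD i 0) = true ∧
    weq [gI.getD i 0, gL.getD i 0] [] = true := by decide +kernel

theorem gg_mem (i : Fin 14) : gg i ∈ Spor.M22 := (mem_of_ok22 (gL_all i).1).2

theorem gg_inv (i : Fin 14) : (gg i)⁻¹ = pm (gI.getD i 0) := by
  obtain ⟨h1, h2, h3⟩ := gL_all i
  have h4 := pr_of_weq (okl2 h2 (mem_of_ok22 h1).1) rfl h3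
  rw [pr_two, pr_nil] at h4
  exact (eq_inv_of_mul_eq_one_left h4).symm

/-- the Gram matrix -/
def Gm (i j : Fin 14) : ZMod 2 := if (gM.getD i 0).testBit j then 1 else 0

/-- its inverse -/
def Bm (i j : Fin 14) : ZMod 2 := if (bM.getD i 0).testBit j then 1 else 0

theorem gram_tst : ∀ i j : Fin 14, c160t [gI.getD i 0, gL.getD j 0] = (gM.getD i 0).testBit j := by
  decide +kernel

theorem gram_inv : ∀ i k : Fin 14, (∑ j : Fin 14, Bm j k * Gm i j) = if i = k then 1 else 0 := by
  decide +kernel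

theorem gram_iff (i j : Fin 14) : c160 ((gg i)⁻¹ * gg j) ↔ (gM.getD i 0).testBit j = true := by
  rw [gg_inv, ← gram_tst, ← c160_iff (okl2 (gL_all i).2.1 (mem_of_ok22 (gL_all j).1).1), pr_two]
  rfl

/-- vectors with this Gram matrix -/
theorem card_ge {V : Type*} [AddCommGroup V] [Finite V] (f : V → V → ZMod 2)
    (hadd : ∀ u v w, f u (v + w) = f u v + f u w) (v : Fin 14 → V)
    (h : ∀ i j, f (v i) (v j) = Gm i j) : 2 ^ 14 ≤ Nat.card V := by
  let F : Fin 14 → V →+ ZMod 2 := fun i => AddMonoidHom.mk' (f (v i)) (hadd _)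
  let u : Fin 14 → V := fun k => ∑ j : Fin 14, if Bm j k = 1 then v j else 0
  have h01 : ∀ x : ZMod 2, x = 0 ∨ x = 1 := by decide
  have hu : ∀ i k, F i (u k) = if i = k then 1 else 0 := by
    intro i k
    show F i (∑ j : Fin 14, if Bm j k = 1 then v j else 0) = _
    rw [map_sum, ← gram_inv i k]
    apply Finset.sum_congr rfl
    intro j _
    rcases h01 (Bm j k) with e | e
    · rw [e, if_neg (by decide), map_zero, zero_mul]
    · rw [e, if_pos rfl, one_mul]
      exact h i j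
  let Φ : V → (Fin 14 → ZMod 2) := fun x i => F i x
  have hs : Function.Surjective Φ := by
    intro t
    refine ⟨∑ k : Fin 14, if t k = 1 then u k else 0, ?_⟩
    funext i
    show F i (∑ k : Fin 14, if t k = 1 then u k else 0) = t i
    rw [map_sum]
    have e : ∀ k : Fin 14, F i (if t k = 1 then u k else 0) = if k = i then t i else 0 := by
      intro k
      rcases h01 (t k) with e | e
      · rw [e, if_neg (by decide), map_zero]
        by_cases hki : k = i
        · rw [if_pos hki, ← hki, e]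
        · rw [if_neg hki]
      · rw [e, if_pos rfl, hu]
        by_cases hki : k = i
        · rw [if_pos hki, if_pos hki.symm, ← hki, e]
        · rw [if_neg hki, if_neg (fun h => hki h.symm)]
    rw [Finset.sum_congr rfl fun k _ => e k, Finset.sum_ite_eq' Finset.univ i fun _ => t i]
    simp
  have h1 := Nat.card_le_card_of_surjective Φ hs
  rw [Nat.card_fun] at h1
  simpa using h1

end Cfsg.Agent.Omega.EH3.M22.Gram

end

-- merged: Cfsg.Agent.Mrg.Omega.EH3.M22.Sub32
section

section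


/-!
# EH3, row `M22`: elementary abelian subgroups of order at least 32 of `M22:2` are conjugate to `P` (helper969)
-/

set_option autoImplicit false

namespace Cfsg.Agent.Omega.EH3.M22.Sub32

open Cfsg Cfsg.Agent.KFacts.MM.Sub Cfsg.Agent.KFacts.MM.OutP Cfsg.Agent.KFacts.MM.OutS
open Cfsg.Agent.J4Type.Aut22 (D22 mem_D22_iff M22_le_D22 mem_M22_iff_D22 card_D22)
open Cfsg.Agent.OddHalf.MM (Nrm Cen El)
open Subgroup

/-- a 2-subgroup of `M22:2` is conjugate to a subgroup of `SA` -/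
theorem exists_conj_SA {E : Subgroup (Equiv.Perm GolayPt)} (hE : E ≤ D22) (h2 : IsPGroup 2 E) :
    ∃ g ∈ D22, ∀ x ∈ E, g * x * g⁻¹ ∈ SA := by
  have : Fact (Nat.Prime 2) := ⟨Nat.prime_two⟩
  have hE2 : IsPGroup 2 (E.subgroupOf D22) := h2.comap_of_injective D22.subtype D22.subtype_injective
  have hS2 : IsPGroup 2 (SA.subgroupOf D22) :=
    isPGroup_SA.comap_of_injective D22.subtype D22.subtype_injective
  obtain ⟨Q1, hQ1⟩ := hE2.exists_le_sylow
  obtain ⟨Q2, hQ2⟩ := hS2.exists_le_sylow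
  have hQ2' : (Q2 : Subgroup D22) = SA.subgroupOf D22 := by
    symm
    apply eq_of_le_of_card_ge hQ2
    have h3 := card_le_of_two card_D22 Q2.isPGroup'
    rw [Nat.card_congr (subgroupOfEquivOfLe SA_le).toEquiv, card_SA]
    exact h3
  obtain ⟨g, hg⟩ := MulAction.exists_smul_eq D22 Q1 Q2
  refine ⟨g, g.2, fun x hx => ?_⟩
  have h4 : (⟨x, hE hx⟩ : D22) ∈ (Q1 : Subgroup D22) := hQ1 hx
  have h5 : g * ⟨x, hE hx⟩ * g⁻¹ ∈ (Q2 : Subgroup D22) := by
    rw [← hg, Sylow.smul_def, Sylow.pointwise_smul_def]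
    exact Subgroup.smul_mem_pointwise_smul _ (MulAut.conj g) _ h4
  rw [hQ2'] at h5
  exact h5

theorem exists_conj_P {E : Subgroup (Equiv.Perm GolayPt)} (hE : E ≤ D22) (hel : El E)
    (h32 : 32 ≤ Nat.card E) : ∃ g ∈ D22, ∀ x, x ∈ E ↔ g * x * g⁻¹ ∈ P := by
  have h2 : IsPGroup 2 E := by
    intro x
    refine ⟨1, ?_⟩
    apply Subtype.ext
    show (x : Equiv.Perm GolayPt) ^ (2 ^ 1) = 1
    rw [pow_one, pow_two]
    exact hel x x.2
  obtain ⟨g, hg, h⟩ := exists_conj_SA hE h2
  have hmap : E.map (MulAut.conj g).toMonoidHom = P := by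
    apply el32
    · rintro _ ⟨x, hx, rfl⟩
      exact h x hx
    · rintro _ ⟨x, hx, rfl⟩
      show g * x * g⁻¹ * (g * x * g⁻¹) = 1
      have e : g * x * g⁻¹ * (g * x * g⁻¹) = g * (x * x) * g⁻¹ := by group
      rw [e, hel x hx]
      group
    · rwa [card_map_of_injective (MulAut.conj g).injective]
  refine ⟨g, hg, fun x => ?_⟩
  rw [← hmap]
  constructor
  · intro hx
    exact ⟨x, hx, rfl⟩
  · rintro ⟨y, hy, e⟩
    have e' : g * y * g⁻¹ = g * x * g⁻¹ := e
    rw [← mul_left_cancel (mul_right_cancel e')]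
    exact hy

theorem card_le_32 {E : Subgroup (Equiv.Perm GolayPt)} (hE : E ≤ D22) (hel : El E) :
    Nat.card E ≤ 32 := by
  by_contra hcon
  obtain ⟨g, -, h⟩ := exists_conj_P hE hel (by omega)
  have h1 : Nat.card E ≤ Nat.card P := by
    apply Nat.card_le_card_of_injective (fun x : E => (⟨g * x * g⁻¹, (h x).1 x.2⟩ : P))
    intro x y hxy
    have e : g * (x : Equiv.Perm GolayPt) * g⁻¹ = g * y * g⁻¹ := congrArg Subtype.val hxy
    exact Subtype.ext (mul_left_cancel (mul_right_cancel e))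
  rw [cardP] at h1
  omega

end Cfsg.Agent.Omega.EH3.M22.Sub32

end

section


/-!
# EH3, row `M22`: irreducibility by an element of order 11 (helper969)

`Inp` : the input (abstract linear setting). `card_CH`: `C_H(L)` has order 1 or 3.
-/

set_option autoImplicit false

namespace Cfsg.Agent.Omega.EH3.M22.Irr

open Cfsg Subgroup

/-- the input -/
structure Inp {H V : Type*} [Group H] [AddCommGroup V] [DistribMulAction H V] (f : V → V → ZMod 2)
    (A L : Subgroup H) (a : V) (w : ℕ) : Prop where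
  two : ∀ v : V, v + v = 0
  faith : ∀ h : H, (∀ v : V, h • v = v) → h = 1
  irr : ∀ U : AddSubgroup V, (∀ h : H, ∀ u ∈ U, h • u ∈ U) → (∃ u ∈ U, u ≠ 0) → ∀ v, v ∈ U
  fadd : ∀ u v v', f u (v + v') = f u v + f u v'
  finv : ∀ (h : H) (u v : V), f (h • u) (h • v) = f u v
  fnd : ∀ u, (∀ v, f u v = 0) → u = 0
  hw : 6 ≤ w
  cardV : Nat.card V = 2 ^ (2 * w)
  elA : ∀ x ∈ A, x * x = 1
  cardA : Nat.card A = 2 ^ (w - 1)
  a0 : a ≠ 0
  aA : ∀ x ∈ A, x • a = a
  CA : ∀ v : V, (∀ x ∈ A, x • v = v) → v = 0 ∨ v = a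
  semi : ∀ v, f a v = 1 → ∀ x ∈ A, x • v = v → x = 1
  nL : L.Normal
  perf : ⁅L, L⁆ = L
  iso : Spor.IsoM22 (L ⧸ center L)
  AL : ∀ x ∈ A, (∀ l ∈ L, x * l = l * x) → x = 1

section

variable {H V : Type*} [Group H] [AddCommGroup V] [DistribMulAction H V] {f : V → V → ZMod 2}
  {A L : Subgroup H} {a : V} {w : ℕ}

/-! ### Normal subgroups of `L` -/

/-- a subgroup `M` of `L` normalised by `L` and not central in `L` is `L` -/
theorem eq_of_normal (perf : ⁅L, L⁆ = L) (iso : Spor.IsoM22 (L ⧸ center L)) {M : Subgroup H}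
    (hM : M ≤ L) (hn : ∀ l ∈ L, ∀ m ∈ M, l * m * l⁻¹ ∈ M)
    (hc : ∃ m ∈ M, ∃ l ∈ L, m * l ≠ l * m) : M = L := by
  obtain ⟨e⟩ := iso
  have hs : IsSimpleGroup (L ⧸ center L) :=
    have := SporadicA.MathieuRecog.simple_M22
    e.isSimpleGroup
  have hN : (M.subgroupOf L).Normal := ⟨fun n hn' g => hn g g.2 n hn'⟩
  have hNm : ((M.subgroupOf L).map (QuotientGroup.mk' (center L))).Normal :=
    hN.map _ (QuotientGroup.mk'_surjective _)
  rcases hNm.eq_bot_or_eq_top with h | h
  · exfalso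
    obtain ⟨m, hm, l, hl, hne⟩ := hc
    rw [Subgroup.map_eq_bot_iff, QuotientGroup.ker_mk'] at h
    have h1 : (⟨m, hM hm⟩ : L) ∈ center L := h hm
    have h2 := mem_center_iff.1 h1 ⟨l, hl⟩
    exact hne (congrArg Subtype.val h2).symm
  · apply le_antisymm hM
    rw [← perf, commutator_le]
    have key : ∀ l : L, ∃ n ∈ M, ∃ c : L, (∀ y ∈ L, y * (c : H) = c * y) ∧ (l : H) = n * c := by
      intro l
      have h1 : (QuotientGroup.mk' (center L)) l ∈
          (M.subgroupOf L).map (QuotientGroup.mk' (center L)) := by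
        rw [h]
        trivial
      obtain ⟨n, hn', h2⟩ := h1
      have h3 : n⁻¹ * l ∈ center L := QuotientGroup.eq.1 h2
      refine ⟨n, hn', n⁻¹ * l, fun y hy => ?_, ?_⟩
      · exact congrArg Subtype.val (mem_center_iff.1 h3 ⟨y, hy⟩)
      · show (l : H) = n * ((n : H)⁻¹ * l)
        group
    intro l hl l' hl'
    obtain ⟨n, hn1, c, hc1, e1⟩ := key ⟨l, hl⟩
    obtain ⟨n', hn2, c', hc2, e2⟩ := key ⟨l', hl'⟩
    have e1 : l = n * c := e1
    have e2 : l' = n' * c' := e2
    have h1 : n * n' * n⁻¹ * n'⁻¹ ∈ M :=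
      mul_mem (mul_mem (mul_mem hn1 hn2) (inv_mem hn1)) (inv_mem hn2)
    have h2 : l * l' * l⁻¹ * l'⁻¹ = n * n' * n⁻¹ * n'⁻¹ := by
      have k1 : (c : H) * n' = n' * c := (hc1 n' (hM hn2)).symm
      have k2 : (c' : H) * n⁻¹ = n⁻¹ * c' := (hc2 n⁻¹ (inv_mem (hM hn1))).symm
      have k3 : (c : H) * c' = c' * c := (hc1 c' c'.2).symm
      calc l * l' * l⁻¹ * l'⁻¹ = n * c * (n' * c') * (n * c)⁻¹ * (n' * c')⁻¹ := by rw [e1, e2]
        _ = n * (c * n') * c' * (c : H)⁻¹ * n⁻¹ * (c' : H)⁻¹ * n'⁻¹ := by group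
        _ = n * n' * (c * c') * (c : H)⁻¹ * n⁻¹ * (c' : H)⁻¹ * n'⁻¹ := by rw [k1]; group
        _ = n * n' * (c' * n⁻¹) * (c' : H)⁻¹ * n'⁻¹ := by rw [k3]; group
        _ = n * n' * n⁻¹ * n'⁻¹ := by rw [k2]; group
    rw [commutatorElement_def, h2]
    exact h1

/-- a noncentral 11-element of `L` -/
theorem exists_rho [Finite H] (iso : Spor.IsoM22 (L ⧸ center L)) :
    ∃ ρ ∈ L, (∃ l ∈ L, ρ * l ≠ l * ρ) ∧ ∃ k : ℕ, ρ ^ 11 ^ k = 1 := by
  obtain ⟨e⟩ := iso
  have : Fact (Nat.Prime 11) := ⟨by norm_num⟩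
  have h1 : 11 ∣ (center L).index := by
    rw [Subgroup.index_eq_card, Nat.card_congr e.toEquiv, SporadicA.MathieuRecog.card_M22]
    norm_num
  obtain ⟨P⟩ : Nonempty (Sylow 11 L) := inferInstance
  have h2 : ¬ (P : Subgroup L) ≤ center L := by
    intro h
    have h3 := Subgroup.index_dvd_of_le h
    exact P.not_dvd_index (h1.trans h3)
  rw [SetLike.not_le_iff_exists] at h2
  obtain ⟨ρ, hρ, hc⟩ := h2
  obtain ⟨k, hk⟩ := P.isPGroup' ⟨ρ, hρ⟩
  refine ⟨ρ, ρ.2, ?_, k, ?_⟩
  · by_contra hcon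
    push Not at hcon
    apply hc
    rw [mem_center_iff]
    intro l
    exact Subtype.ext (hcon l l.2).symm
  · have h4 : ρ ^ 11 ^ k = 1 := congrArg Subtype.val hk
    exact congrArg Subtype.val h4

/-! ### Counting modulo 11 -/

/-- `v ↦ ρ v - v` -/
def del (ρ : H) : V →+ V where
  toFun v := ρ • v - v
  map_zero' := by rw [smul_zero, sub_zero]
  map_add' u v := by rw [smul_add]; abel

theorem del_apply (ρ : H) (v : V) : del ρ v = ρ • v - v := rfl

theorem pow_two_of_dvd {n m : ℕ} (h : n ∣ 2 ^ m) : ∃ k ≤ m, n = 2 ^ k := (Nat.dvd_prime_pow Nat.prime_two).1 h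

theorem ten_le {u k : ℕ} (hk : k < u) (h : 2 ^ u ≡ 2 ^ k [MOD 11]) : k + 10 ≤ u := by
  by_contra hcon
  obtain ⟨j, rfl⟩ := Nat.exists_eq_add_of_lt hk
  have hj : j + 1 < 10 := by omega
  have h1 : 2 ^ (j + 1) ≡ 1 [MOD 11] := by
    have h2 : 2 ^ k * 2 ^ (j + 1) ≡ 2 ^ k * 1 [MOD 11] := by
      rw [mul_one, ← pow_add]
      exact h
    exact Nat.ModEq.cancel_left_of_coprime (by
      rw [Nat.gcd_comm]
      exact Nat.Coprime.pow_left k (by norm_num)) h2
  have h3 : ∀ j < 9, ¬ (2 ^ (j + 1) ≡ 1 [MOD 11]) := by decide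
  exact h3 j (by omega) h1

/-- counting fixed points in an invariant subgroup -/
theorem count [Finite V] {ρ : H} {k : ℕ} (hρ : ρ ^ 11 ^ k = 1) {U : AddSubgroup V}
    (hU : ∀ u ∈ U, ρ • u ∈ U) :
    Nat.card U ≡ Nat.card (U ⊓ (del ρ : V →+ V).ker : AddSubgroup V) [MOD 11] := by
  classical
  have : Fact (Nat.Prime 11) := ⟨by norm_num⟩
  have := Fintype.ofFinite U
  let g : Function.End U := fun u => ⟨ρ • (u : V), hU u u.2⟩
  have hg : ∀ n : ℕ, ∀ u : U, (((g ^ n) u : U) : V) = ρ ^ n • (u : V) := by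
    intro n
    induction n with
    | zero =>
      intro u
      rw [pow_zero, pow_zero, one_smul]
      rfl
    | succ n ih =>
      intro u
      rw [pow_succ', pow_succ', mul_smul, ← ih]
      rfl
  have h1 : g ^ 11 ^ k = 1 := by
    funext u
    apply Subtype.ext
    rw [hg, hρ, one_smul]
    rfl
  have h2 := Equiv.Perm.card_fixedPoints_modEq h1
  rw [← Nat.card_eq_fintype_card, ← Nat.card_eq_fintype_card] at h2
  have h3 : Nat.card (Function.fixedPoints g) = Nat.card (U ⊓ (del ρ : V →+ V).ker : AddSubgroup V) := by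
    apply Nat.card_congr
    refine ⟨fun u => ⟨u.1, u.1.2, ?_⟩, fun u => ⟨⟨u.1, u.2.1⟩, ?_⟩, fun u => rfl, fun u => rfl⟩
    · have h4 : g u.1 = u.1 := u.2
      have h5 : ρ • (u.1 : V) = u.1 := congrArg Subtype.val h4
      show ρ • ((u.1 : U) : V) - (u.1 : U) = 0
      rw [h5, sub_self]
    · show g _ = _
      apply Subtype.ext
      have h4 : ρ • (u : V) - u = 0 := u.2.2
      exact sub_eq_zero.1 h4
  rw [h3] at h2
  exact h2

/-- `|U| = |δ(U)| |C_U(ρ)|` -/
theorem card_map_del [Finite V] (ρ : H) (U : AddSubgroup V) :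
    Nat.card U = Nat.card (U.map (del ρ)) * Nat.card (U ⊓ (del ρ : V →+ V).ker : AddSubgroup V) := by
  let g : U →+ V := (del ρ : V →+ V).comp U.subtype
  have h1 : Nat.card g.ker = Nat.card (U ⊓ (del ρ : V →+ V).ker : AddSubgroup V) := by
    apply Nat.card_congr
    exact ⟨fun u => ⟨u.1, u.1.2, u.2⟩, fun u => ⟨⟨u.1, u.2.1⟩, u.2.2⟩, fun u => rfl, fun u => rfl⟩
  have h2 : g.range = U.map (del ρ) := by
    rw [AddMonoidHom.range_comp, AddSubgroup.range_subtype]
  rw [← h1, ← h2, ← AddSubgroup.index_ker, mul_comm]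
  exact (AddSubgroup.card_mul_index g.ker).symm

end

end Cfsg.Agent.Omega.EH3.M22.Irr

end

section


/-!
# EH3, row `M22`: the homomorphism `τ : H → D22 = Aut(M22)` (helper969)
-/

set_option autoImplicit false

namespace Cfsg.Agent.Omega.EH3.M22.Tau

open Cfsg Subgroup
open Cfsg.Agent.J4Type.Aut22 (D22 mem_D22_iff M22_le_D22)

/-- automorphisms of the quotient by the centre -/
noncomputable def κ (X : Type*) [Group X] : MulAut X →* MulAut (X ⧸ center X) where
  toFun α := QuotientGroup.congr (center X) (center X) α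
    (Subgroup.characteristic_iff_map_eq.1 inferInstance α)
  map_one' := by
    apply MulEquiv.ext
    intro x
    induction x using QuotientGroup.induction_on with
    | H x => rfl
  map_mul' α β := by
    apply MulEquiv.ext
    intro x
    induction x using QuotientGroup.induction_on with
    | H x => rfl

theorem κ_apply {X : Type*} [Group X] (α : MulAut X) (x : X) :
    κ X α (x : X ⧸ center X) = ((α x : X) : X ⧸ center X) := rfl

section

variable {H : Type*} [Group H] {L : Subgroup H}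

/-- an element acting trivially on `L / Z(L)` centralises `L` -/
theorem comm_of_quot [hn : L.Normal] (perf : ⁅L, L⁆ = L) {h : H}
    (hq : κ L (MulAut.conjNormal h) = 1) : ∀ l ∈ L, h * l = l * h := by
  have hc : ∀ l ∈ L, ∀ y ∈ L, y * (h * l * h⁻¹ * l⁻¹) = h * l * h⁻¹ * l⁻¹ * y := by
    intro l hl y hy
    have h1 : κ L (MulAut.conjNormal h) ((⟨l, hl⟩ : L) : L ⧸ center L) = ((⟨l, hl⟩ : L) : L ⧸ center L) := by
      rw [hq]
      rfl
    rw [κ_apply] at h1
    have h2 := QuotientGroup.eq.1 h1.symm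
    have h3 := mem_center_iff.1 h2 (⟨l, hl⟩ * ⟨y, hy⟩ * ⟨l, hl⟩⁻¹)
    have h4 : l * y * l⁻¹ * (l⁻¹ * (h * l * h⁻¹)) = l⁻¹ * (h * l * h⁻¹) * (l * y * l⁻¹) :=
      congrArg Subtype.val h3
    have h5 : ∀ x ∈ L, x * (l⁻¹ * (h * l * h⁻¹)) = l⁻¹ * (h * l * h⁻¹) * x := by
      intro x hx
      exact congrArg Subtype.val (mem_center_iff.1 h2 ⟨x, hx⟩)
    have h6 : h * l * h⁻¹ * l⁻¹ = l⁻¹ * (h * l * h⁻¹) := by
      have h7 := h5 l⁻¹ (inv_mem hl)
      have h8 := h5 l hl
      calc h * l * h⁻¹ * l⁻¹ = l * (l⁻¹ * (h * l * h⁻¹)) * l⁻¹ := by group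
        _ = l⁻¹ * (h * l * h⁻¹) * l * l⁻¹ := by rw [h8]
        _ = l⁻¹ * (h * l * h⁻¹) := by group
    rw [h6]
    exact h5 y hy
  -- the centraliser of `h` in `L`
  let M : Subgroup H := L ⊓ centralizer ({h} : Set H)
  have hM : L ≤ M := by
    rw [← perf, commutator_le]
    intro l hl l' hl'
    rw [Subgroup.mem_inf, commutatorElement_def]
    refine ⟨?_, ?_⟩
    · exact mul_mem (mul_mem (mul_mem hl hl') (inv_mem hl)) (inv_mem hl')
    · rw [mem_centralizer_singleton_iff]
      have k1 := hc l hl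
      have k2 := hc l' hl'
      have e1 : h * l * h⁻¹ = h * l * h⁻¹ * l⁻¹ * l := by group
      have e2 : h * l' * h⁻¹ = h * l' * h⁻¹ * l'⁻¹ * l' := by group
      have key : h * (l * l' * l⁻¹ * l'⁻¹) * h⁻¹ = l * l' * l⁻¹ * l'⁻¹ := by
        have q1 := k1 l' hl'
        have q2 := k2 l⁻¹ (inv_mem hl)
        have q3 : (h * l * h⁻¹ * l⁻¹) * (h * l' * h⁻¹ * l'⁻¹) = (h * l' * h⁻¹ * l'⁻¹) * (h * l * h⁻¹ * l⁻¹) := by
          apply k2
          exact mul_mem (hn.conj_mem l hl h) (inv_mem hl)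
        generalize h * l * h⁻¹ * l⁻¹ = c at *
        generalize h * l' * h⁻¹ * l'⁻¹ = c' at *
        calc h * (l * l' * l⁻¹ * l'⁻¹) * h⁻¹
            = (h * l * h⁻¹) * (h * l' * h⁻¹) * (h * l * h⁻¹)⁻¹ * (h * l' * h⁻¹)⁻¹ := by group
          _ = (c * l) * (c' * l') * (c * l)⁻¹ * (c' * l')⁻¹ := by rw [e1, e2]
          _ = c * l * c' * l' * l⁻¹ * c⁻¹ * l'⁻¹ * c'⁻¹ := by group
          _ = l * l' * l⁻¹ * l'⁻¹ := by
            have r1 : c * l = l * c := (k1 l hl).symm
            have r2 : c' * l' = l' * c' := (k2 l' hl').symm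
            have r3 : c * l' = l' * c := q1.symm
            have r4 : c' * l⁻¹ = l⁻¹ * c' := q2.symm
            have r5 : c⁻¹ * l'⁻¹ = l'⁻¹ * c⁻¹ := by
              rw [← mul_inv_rev, ← mul_inv_rev, r3]
            calc c * l * c' * l' * l⁻¹ * c⁻¹ * l'⁻¹ * c'⁻¹
                = l * c * (c' * l') * l⁻¹ * (c⁻¹ * l'⁻¹) * c'⁻¹ := by rw [r1]; group
              _ = l * c * (l' * c') * l⁻¹ * (l'⁻¹ * c⁻¹) * c'⁻¹ := by rw [r2, r5]
              _ = l * (c * l') * (c' * l⁻¹) * l'⁻¹ * c⁻¹ * c'⁻¹ := by group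
              _ = l * (l' * c) * (l⁻¹ * c') * l'⁻¹ * c⁻¹ * c'⁻¹ := by rw [r3, r4]
              _ = l * l' * (c * l⁻¹) * (c' * l'⁻¹) * c⁻¹ * c'⁻¹ := by group
              _ = l * l' * (l⁻¹ * c) * (l'⁻¹ * c') * c⁻¹ * c'⁻¹ := by
                have r6 : c * l⁻¹ = l⁻¹ * c := by
                  rw [mul_inv_eq_iff_eq_mul, mul_assoc, r1, inv_mul_cancel_left]
                have r7 : c' * l'⁻¹ = l'⁻¹ * c' := by
                  rw [mul_inv_eq_iff_eq_mul, mul_assoc, r2, inv_mul_cancel_left]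
                rw [r6, r7]
              _ = l * l' * l⁻¹ * (c * l'⁻¹) * c' * c⁻¹ * c'⁻¹ := by group
              _ = l * l' * l⁻¹ * (l'⁻¹ * c) * c' * c⁻¹ * c'⁻¹ := by
                have r8 : c * l'⁻¹ = l'⁻¹ * c := by
                  rw [mul_inv_eq_iff_eq_mul, mul_assoc, r3, inv_mul_cancel_left]
                rw [r8]
              _ = l * l' * l⁻¹ * l'⁻¹ * (c * c') * c⁻¹ * c'⁻¹ := by group
              _ = l * l' * l⁻¹ * l'⁻¹ := by rw [q3]; group
      rw [mul_inv_eq_iff_eq_mul] at key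
      exact key.symm
  intro l hl
  have h9 := (Subgroup.mem_inf.1 (hM hl)).2
  rw [mem_centralizer_singleton_iff] at h9
  exact h9.symm

theorem exists_tau [hn : L.Normal] (perf : ⁅L, L⁆ = L) (iso : Spor.IsoM22 (L ⧸ center L)) :
    ∃ τ : H →* Equiv.Perm GolayPt, (∀ h, τ h ∈ D22) ∧ (∀ h, τ h = 1 ↔ ∀ l ∈ L, h * l = l * h) ∧
      (∀ l ∈ L, τ l ∈ Spor.M22) ∧ ∀ m ∈ Spor.M22, ∃ l ∈ L, τ l = m := by
  obtain ⟨ι, hin, hr, hc⟩ := KFacts.MM.OutAut.exists_iota iso
  have hconj : ∀ l : L, κ L (MulAut.conjNormal (l : H)) = MulAut.conj (l : L ⧸ center L) := by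
    intro l
    apply MulEquiv.ext
    intro x
    induction x using QuotientGroup.induction_on with
    | H x =>
      rw [κ_apply, MulAut.conj_apply, ← QuotientGroup.mk_mul, ← QuotientGroup.mk_inv,
        ← QuotientGroup.mk_mul]
      congr 1
  refine ⟨ι.comp ((κ L).comp (MulAut.conjNormal : H →* MulAut L)), ?_, ?_, ?_, ?_⟩
  · intro h
    rw [← hr]
    exact ⟨_, rfl⟩
  · intro h
    constructor
    · intro h1
      exact comm_of_quot perf (hin (h1.trans (map_one ι).symm))
    · intro h1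
      have h2 : κ L (MulAut.conjNormal h) = 1 := by
        have h3 : (MulAut.conjNormal h : MulAut L) = 1 := by
          apply MulEquiv.ext
          intro x
          apply Subtype.ext
          rw [MulAut.conjNormal_apply, h1 x x.2, mul_inv_cancel_right]
          rfl
        rw [h3, map_one]
      show ι (κ L (MulAut.conjNormal h)) = 1
      rw [h2, map_one]
  · intro l hl
    have h1 : κ L (MulAut.conjNormal l) ∈ (Spor.M22).comap ι := by
      rw [hc]
      exact ⟨_, (hconj ⟨l, hl⟩).symm⟩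
    exact h1
  · intro m hm
    have h1 : m ∈ ι.range := by
      rw [hr]
      exact M22_le_D22 hm
    obtain ⟨β, rfl⟩ := h1
    have h2 : β ∈ (MulAut.conj : (L ⧸ center L) →* MulAut (L ⧸ center L)).range := by
      rw [← hc]
      exact hm
    obtain ⟨x, rfl⟩ := h2
    induction x using QuotientGroup.induction_on with
    | H x =>
      refine ⟨x, x.2, ?_⟩
      show ι (κ L (MulAut.conjNormal (x : H))) = _
      rw [hconj]

end

end Cfsg.Agent.Omega.EH3.M22.Tau

end

section


/-!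
# EH3, row `M22`: `w = 6`, `L` is irreducible on `V`, `|C_H(L)| = 1` or 3 (helper969)
-/

set_option autoImplicit false

namespace Cfsg.Agent.Omega.EH3.M22.Cen

open Cfsg Subgroup
open Cfsg.Agent.J4Type.Aut22 (D22 mem_D22_iff M22_le_D22)
open Cfsg.Agent.OddHalf.MM (El)
open Cfsg.Agent.Omega.EH3.M22.Irr

variable {H V : Type*} [Group H] [AddCommGroup V] [DistribMulAction H V] {f : V → V → ZMod 2}
  {A L : Subgroup H} {a : V} {w : ℕ}

theorem w_eq (I : Inp f A L a w) : w = 6 := by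
  have := I.nL
  obtain ⟨τ, hD, hk, -, -⟩ := Tau.exists_tau I.perf I.iso
  have hE : A.map τ ≤ D22 := by
    rintro _ ⟨x, -, rfl⟩
    exact hD x
  have hel : El (A.map τ) := by
    rintro _ ⟨x, hx, rfl⟩
    rw [← map_mul, I.elA x hx, map_one]
  have hcard : Nat.card (A.map τ) = Nat.card A := by
    symm
    apply Nat.card_congr
    refine Equiv.ofBijective (fun x : A => (⟨τ x, x, x.2, rfl⟩ : A.map τ)) ⟨?_, ?_⟩
    · intro x y hxy
      have h1 : τ x = τ y := congrArg Subtype.val hxy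
      have h2 : τ ((x : H)⁻¹ * y) = 1 := by
        rw [map_mul, map_inv, h1, inv_mul_cancel]
      have h3 := I.AL _ (mul_mem (inv_mem x.2) y.2) ((hk _).1 h2)
      exact Subtype.ext (inv_mul_eq_one.1 h3)
    · rintro ⟨_, x, hx, rfl⟩
      exact ⟨⟨x, hx⟩, rfl⟩
  have h1 := Sub32.card_le_32 hE hel
  rw [hcard, I.cardA] at h1
  have h2 := I.hw
  by_contra hne
  have h3 : 2 ^ 6 ≤ 2 ^ (w - 1) := Nat.pow_le_pow_right (by norm_num) (by omega)
  norm_num at h3
  omega

theorem cardV12 (I : Inp f A L a w) : Nat.card V = 2 ^ 12 := by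
  rw [I.cardV, w_eq I]

/-- an element of `L` acting trivially on a nonzero `L`-invariant subgroup is central -/
theorem nontriv (I : Inp f A L a w) {ρ : H} (hρ : ρ ∈ L) (hc : ∃ l ∈ L, ρ * l ≠ l * ρ)
    {U : AddSubgroup V} (hU : ∀ l ∈ L, ∀ u ∈ U, l • u ∈ U) (h0 : ∃ u ∈ U, u ≠ 0) :
    ∃ u ∈ U, ρ • u ≠ u := by
  by_contra hcon
  push Not at hcon
  have hn := I.nL
  let M : Subgroup H :=
    { carrier := {l | l ∈ L ∧ ∀ u ∈ U, l • u = u}
      one_mem' := ⟨one_mem L, fun u _ => one_smul H u⟩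
      mul_mem' := fun {x y} hx hy => ⟨mul_mem hx.1 hy.1, fun u hu => by
        rw [mul_smul, hy.2 u hu, hx.2 u hu]⟩
      inv_mem' := fun {x} hx => ⟨inv_mem hx.1, fun u hu => by
        rw [inv_smul_eq_iff, hx.2 u hu]⟩ }
  have hM : M = L := by
    apply eq_of_normal I.perf I.iso
    · exact fun x hx => hx.1
    · intro l hl m hm
      refine ⟨mul_mem (mul_mem hl hm.1) (inv_mem hl), fun u hu => ?_⟩
      rw [mul_smul, mul_smul, hm.2 _ (hU _ (inv_mem hl) u hu), smul_inv_smul]
    · obtain ⟨l, hl, hne⟩ := hc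
      exact ⟨ρ, ⟨hρ, hcon⟩, l, hl, hne⟩
  let C : AddSubgroup V :=
    { carrier := {v | ∀ l ∈ L, l • v = v}
      zero_mem' := fun l _ => smul_zero l
      add_mem' := fun {x y} hx hy l hl => by rw [smul_add, hx l hl, hy l hl]
      neg_mem' := fun {x} hx l hl => by rw [smul_neg, hx l hl] }
  have hC := I.irr C (by
    intro h u hu l hl
    have h1 : h⁻¹ * l * h ∈ L := by
      have := hn.conj_mem l hl h⁻¹
      rwa [inv_inv] at this
    have h2 := hu _ h1
    rw [mul_smul, mul_smul, inv_smul_eq_iff] at h2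
    exact h2) (by
    obtain ⟨u, hu, hne⟩ := h0
    refine ⟨u, fun l hl => ?_, hne⟩
    rw [← hM] at hl
    exact hl.2 u hu)
  obtain ⟨l, hl, hne⟩ := hc
  apply hne
  have h1 : l = 1 := I.faith l fun v => hC v l hl
  rw [h1, mul_one, one_mul]

variable [Finite V]

/-- the data of an element of order a power of 11 -/
theorem rho_card (I : Inp f A L a w) {ρ : H} {k : ℕ} (hρ : ρ ∈ L) (hc : ∃ l ∈ L, ρ * l ≠ l * ρ)
    (hk : ρ ^ 11 ^ k = 1) :
    Nat.card ((⊤ : AddSubgroup V) ⊓ (del ρ : V →+ V).ker : AddSubgroup V) = 4 ∧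
      Nat.card ((⊤ : AddSubgroup V).map (del ρ)) = 2 ^ 10 := by
  have h1 := count (U := (⊤ : AddSubgroup V)) hk (fun u _ => AddSubgroup.mem_top _)
  have h2 := card_map_del (V := V) ρ ⊤
  have hV : Nat.card (⊤ : AddSubgroup V) = 2 ^ 12 := by
    rw [← cardV12 I]
    exact Nat.card_congr (AddSubgroup.topEquiv (G := V)).toEquiv
  rw [hV] at h1 h2
  obtain ⟨j, hj, ej⟩ := pow_two_of_dvd (n := Nat.card ((⊤ : AddSubgroup V) ⊓ (del ρ : V →+ V).ker :
    AddSubgroup V)) (m := 12) (by rw [h2]; exact Dvd.intro_left _ rfl)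
  rw [ej] at h1 h2 ⊢
  have hlt : j ≠ 12 := by
    rintro rfl
    obtain ⟨u, -, hu⟩ := nontriv I hρ hc (U := ⊤) (fun _ _ _ _ => AddSubgroup.mem_top _)
      ⟨a, AddSubgroup.mem_top _, I.a0⟩
    have h3 : ((⊤ : AddSubgroup V) ⊓ (del ρ : V →+ V).ker : AddSubgroup V) = ⊤ := by
      apply AddSubgroup.eq_of_le_of_card_ge le_top
      rw [hV, ej]
    have h4 : u ∈ ((⊤ : AddSubgroup V) ⊓ (del ρ : V →+ V).ker : AddSubgroup V) := by
      rw [h3]
      exact AddSubgroup.mem_top _
    have h5 : ρ • u - u = 0 := h4.2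
    exact hu (sub_eq_zero.1 h5)
  have h10 := ten_le (by omega : j < 12) h1
  have hj2 : j = 2 := by
    have h6 : ∀ j < 3, 2 ^ 12 ≡ 2 ^ j [MOD 11] → j = 2 := by decide
    exact h6 j (by omega) h1
  rw [hj2] at h2 ⊢
  refine ⟨by norm_num, ?_⟩
  omega

/-- `L` is irreducible on `V` -/
theorem irrL [Finite H] (I : Inp f A L a w) (U : AddSubgroup V) (hU : ∀ l ∈ L, ∀ u ∈ U, l • u ∈ U)
    (h0 : ∃ u ∈ U, u ≠ 0) : ∀ v, v ∈ U := by
  have hn := I.nL
  obtain ⟨ρ, hρ, hc, k, hk⟩ := exists_rho I.iso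
  obtain ⟨-, h10⟩ := rho_card I hρ hc hk
  -- `[V, ρ] ≤ U`
  have hδ : ∀ v, ρ • v - v ∈ U := by
    have h1 := count hk (hU ρ hρ)
    have h2 := card_map_del ρ U
    obtain ⟨i, hi, ei⟩ := pow_two_of_dvd (n := Nat.card U) (m := 12) (by
      rw [← cardV12 I]
      exact AddSubgroup.card_addSubgroup_dvd_card U)
    rw [ei] at h1 h2
    obtain ⟨j, hj, ej⟩ := pow_two_of_dvd (n := Nat.card (U ⊓ (del ρ : V →+ V).ker : AddSubgroup V))
      (m := i) (by rw [h2]; exact Dvd.intro_left _ rfl)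
    rw [ej] at h1 h2
    have hlt : j ≠ i := by
      rintro rfl
      obtain ⟨u, hu1, hu⟩ := nontriv I hρ hc hU h0
      have h3 : (U ⊓ (del ρ : V →+ V).ker : AddSubgroup V) = U := by
        apply AddSubgroup.eq_of_le_of_card_ge inf_le_left
        rw [ei, ej]
      rw [← h3] at hu1
      have h5 : ρ • u - u = 0 := hu1.2
      exact hu (sub_eq_zero.1 h5)
    have h11 := ten_le (by omega : j < i) h1
    have h12 : 2 ^ 10 ≤ Nat.card (U.map (del ρ)) := by
      obtain ⟨d, rfl⟩ := Nat.exists_eq_add_of_le h11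
      rw [pow_add, pow_add, mul_assoc, mul_comm (Nat.card _)] at h2
      have h13 := Nat.eq_of_mul_eq_mul_left (by positivity) h2
      rw [← h13]
      exact Nat.le_mul_of_pos_right _ (by positivity)
    have h14 : U.map (del ρ) = (⊤ : AddSubgroup V).map (del ρ) := by
      apply AddSubgroup.eq_of_le_of_card_ge (AddSubgroup.map_mono le_top)
      rw [h10]
      exact h12
    intro v
    have h15 : del ρ v ∈ (⊤ : AddSubgroup V).map (del ρ) := ⟨v, AddSubgroup.mem_top _, rfl⟩
    rw [← h14] at h15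
    obtain ⟨u, hu, e⟩ := h15
    have e' : ρ • u - u = ρ • v - v := e
    rw [← e']
    exact sub_mem (hU ρ hρ u hu) hu
  -- all of `L`
  let M : Subgroup H :=
    { carrier := {l | l ∈ L ∧ ∀ v, l • v - v ∈ U}
      one_mem' := ⟨one_mem L, fun v => by rw [one_smul, sub_self]; exact U.zero_mem⟩
      mul_mem' := fun {x y} hx hy => ⟨mul_mem hx.1 hy.1, fun v => by
        have e : (x * y) • v - v = x • (y • v - v) + (x • v - v) := by
          rw [mul_smul, smul_sub]; abel
        rw [e]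
        exact U.add_mem (hU x hx.1 _ (hy.2 v)) (hx.2 v)⟩
      inv_mem' := fun {x} hx => ⟨inv_mem hx.1, fun v => by
        have e : x⁻¹ • v - v = -(x • (x⁻¹ • v) - x⁻¹ • v) := by
          rw [smul_inv_smul]; abel
        rw [e]
        exact U.neg_mem (hx.2 _)⟩ }
  have hM : M = L := by
    apply eq_of_normal I.perf I.iso
    · exact fun x hx => hx.1
    · intro l hl m hm
      refine ⟨mul_mem (mul_mem hl hm.1) (inv_mem hl), fun v => ?_⟩
      have e : (l * m * l⁻¹) • v - v = l • (m • (l⁻¹ • v) - l⁻¹ • v) := by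
        rw [smul_sub, mul_smul, mul_smul, smul_inv_smul]
      rw [e]
      exact hU l hl _ (hm.2 _)
    · obtain ⟨l, hl, hne⟩ := hc
      exact ⟨ρ, ⟨hρ, hδ⟩, l, hl, hne⟩
  let D : AddSubgroup V := AddSubgroup.closure {x | ∃ l ∈ L, ∃ v : V, x = l • v - v}
  have hDU : D ≤ U := by
    rw [AddSubgroup.closure_le]
    rintro x ⟨l, hl, v, rfl⟩
    rw [← hM] at hl
    exact hl.2 v
  have hD := I.irr D (by
    intro h
    have h1 : D ≤ D.comap (DistribSMul.toAddMonoidHom V h) := by
      rw [AddSubgroup.closure_le]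
      rintro x ⟨l, hl, v, rfl⟩
      show h • (l • v - v) ∈ D
      apply AddSubgroup.subset_closure
      refine ⟨h * l * h⁻¹, hn.conj_mem l hl h, h • v, ?_⟩
      rw [smul_sub, mul_smul, mul_smul, inv_smul_smul]
    intro u hu
    exact h1 hu) (by
    obtain ⟨u, -, hu⟩ := nontriv I hρ hc (U := ⊤) (fun _ _ _ _ => AddSubgroup.mem_top _)
      ⟨a, AddSubgroup.mem_top _, I.a0⟩
    exact ⟨ρ • u - u, AddSubgroup.subset_closure ⟨ρ, hρ, u, rfl⟩, fun e => hu (sub_eq_zero.1 e)⟩)
  exact fun v => hDU (hD v)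

/-- an element of `C_H(L)` fixing a nonzero vector is trivial -/
theorem semi_C [Finite H] (I : Inp f A L a w) {x : H} (hx : ∀ l ∈ L, x * l = l * x) {v : V}
    (hv : v ≠ 0) (h : x • v = v) : x = 1 := by
  let U : AddSubgroup V :=
    { carrier := {v | x • v = v}
      zero_mem' := smul_zero x
      add_mem' := fun {u v} (hu : x • u = u) (hv : x • v = v) => by
        show x • (u + v) = u + v
        rw [smul_add, hu, hv]
      neg_mem' := fun {u} (hu : x • u = u) => by
        show x • (-u) = -u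
        rw [smul_neg, hu] }
  have h1 := irrL I U (by
    intro l hl u hu
    show x • l • u = l • u
    have hu' : x • u = u := hu
    rw [← mul_smul, hx l hl, mul_smul, hu']) ⟨v, h, hv⟩
  exact I.faith x h1

/-- `|C_H(L)| = 1` or 3 -/
theorem card_C [Finite H] (I : Inp f A L a w) :
    Nat.card (centralizer (L : Set H)) = 1 ∨ Nat.card (centralizer (L : Set H)) = 3 := by
  obtain ⟨ρ, hρ, hc, k, hk⟩ := exists_rho I.iso
  obtain ⟨h4, -⟩ := rho_card I hρ hc hk
  have hcomm : ∀ x : centralizer (L : Set H), ∀ l ∈ L, (x : H) * l = l * x := fun x l hl =>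
    (mem_centralizer_iff.1 x.2 l hl).symm
  set K4 : AddSubgroup V := (⊤ : AddSubgroup V) ⊓ (del ρ : V →+ V).ker with hK4
  -- a nonzero fixed vector
  obtain ⟨v0, hv0, hne⟩ : ∃ v0 ∈ K4, v0 ≠ 0 := by
    by_contra hcon
    push Not at hcon
    have h1 : K4 = ⊥ := by
      rw [eq_bot_iff]
      intro v hv
      exact AddSubgroup.mem_bot.2 (hcon v hv)
    rw [h1, AddSubgroup.card_bot] at h4
    omega
  have hfix : ∀ x : centralizer (L : Set H), (x : H) • v0 ∈ K4 := by
    intro x
    refine ⟨AddSubgroup.mem_top _, ?_⟩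
    show ρ • (x : H) • v0 - (x : H) • v0 = 0
    have h1 : ρ • v0 - v0 = 0 := hv0.2
    rw [← mul_smul, ← hcomm x ρ hρ, mul_smul, sub_eq_zero.1 h1, sub_self]
  have hinj : Function.Injective
      (fun x : centralizer (L : Set H) => (⟨⟨(x : H) • v0, hfix x⟩, fun e => hne (by
        have e' : (x : H) • v0 = 0 := congrArg Subtype.val e
        exact (smul_eq_zero_iff_eq _).1 e')⟩ : {y : K4 // y ≠ 0})) := by
    intro x y hxy
    have h1 : (x : H) • v0 = (y : H) • v0 := congrArg (fun t : {y : K4 // y ≠ 0} => ((t : K4) : V)) hxy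
    have h2 : ((x : H)⁻¹ * y) • v0 = v0 := by
      rw [mul_smul, ← h1, inv_smul_smul]
    have h3 := semi_C I (x := (x : H)⁻¹ * y) (fun l hl => by
      have k1 := hcomm (x⁻¹ * y) l hl
      exact k1) hne h2
    exact Subtype.ext (inv_mul_eq_one.1 h3)
  have hle : Nat.card (centralizer (L : Set H)) ≤ 3 := by
    have h1 := Nat.card_le_card_of_injective _ hinj
    have h2 : Nat.card {y : K4 // y ≠ 0} = 3 := by
      have := Fintype.ofFinite K4
      classical
      rw [Nat.card_eq_fintype_card, Fintype.card_subtype_compl, Fintype.card_subtype_eq,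
        ← Nat.card_eq_fintype_card, h4]
    omega
  have hpos : 0 < Nat.card (centralizer (L : Set H)) := Nat.card_pos
  have h2 : Nat.card (centralizer (L : Set H)) ≠ 2 := by
    intro h2
    have : Fact (Nat.Prime 2) := ⟨Nat.prime_two⟩
    obtain ⟨x, hx⟩ := exists_prime_orderOf_dvd_card' 2 (G := centralizer (L : Set H)) (by rw [h2])
    have hxx : (x : H) * x = 1 := by
      have h3 : x ^ 2 = 1 := by rw [← hx]; exact pow_orderOf_eq_one x
      rw [pow_two] at h3
      exact congrArg Subtype.val h3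
    have hx1 : (x : H) ≠ 1 := by
      intro e
      have e' : x = 1 := Subtype.ext e
      rw [e', orderOf_one] at hx
      omega
    apply hx1
    by_cases hs : v0 + (x : H) • v0 = 0
    · apply semi_C I (hcomm x) hne
      have h3 : (x : H) • v0 = -v0 := by
        rw [eq_neg_iff_add_eq_zero, add_comm]
        exact hs
      rw [h3, neg_eq_iff_add_eq_zero]
      exact I.two v0
    · apply semi_C I (hcomm x) hs
      rw [smul_add, ← mul_smul, hxx, one_smul, add_comm]
  omega

end Cfsg.Agent.Omega.EH3.M22.Cen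

end

section


/-!
# EH3, row `M22` (helper969)

`row` : in the abstract main case, if `L` is normal in `H`, perfect, `L / Z(L) ≅ M22`, then `w = 6`,
`|Z(L)| = 3` and `C_H(L) ≤ L`.
-/

set_option autoImplicit false

namespace Cfsg.Agent.Omega.EH3.M22.Row

open Cfsg Subgroup
open Cfsg.Agent.KFacts.MM.Sub Cfsg.Agent.KFacts.MM.OutP
open Cfsg.Agent.J4Type.Aut22 (D22 mem_D22_iff M22_le_D22)
open Cfsg.Agent.OddHalf.MM (El Nrm)
open Cfsg.Agent.Omega.EH3.M22.Irr Cfsg.Agent.Omega.EH3.M22.Cen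
open Cfsg.Agent.Omega.EH3.M22.Perm Cfsg.Agent.Omega.EH3.M22.Gram

variable {H V : Type*} [Group H] [AddCommGroup V] [DistribMulAction H V] {f : V → V → ZMod 2}
  {A L : Subgroup H} {a : V} {w : ℕ}

/-- the homomorphism to `D22` normalised by `σ(A) = P` -/
theorem exists_sigma (I : Inp f A L a w) :
    ∃ σ : H →* Equiv.Perm GolayPt, (∀ h, σ h ∈ D22) ∧ (∀ h, σ h = 1 ↔ ∀ l ∈ L, h * l = l * h) ∧
      (∀ l ∈ L, σ l ∈ Spor.M22) ∧ (∀ m ∈ Spor.M22, ∃ l ∈ L, σ l = m) ∧ (∀ x ∈ A, σ x ∈ P) ∧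
      ∀ p ∈ P, ∃ x ∈ A, σ x = p := by
  have hn := I.nL
  obtain ⟨τ, hD, hk, hL, hs⟩ := Tau.exists_tau I.perf I.iso
  have hE : A.map τ ≤ D22 := by
    rintro _ ⟨x, -, rfl⟩
    exact hD x
  have hel : El (A.map τ) := by
    rintro _ ⟨x, hx, rfl⟩
    rw [← map_mul, I.elA x hx, map_one]
  have hcard : Nat.card (A.map τ) = Nat.card A := by
    symm
    apply Nat.card_congr
    refine Equiv.ofBijective (fun x : A => (⟨τ x, x, x.2, rfl⟩ : A.map τ)) ⟨?_, ?_⟩
    · intro x y hxy
      have h1 : τ x = τ y := congrArg Subtype.val hxy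
      have h2 : τ ((x : H)⁻¹ * y) = 1 := by
        rw [map_mul, map_inv, h1, inv_mul_cancel]
      have h3 := I.AL _ (mul_mem (inv_mem x.2) y.2) ((hk _).1 h2)
      exact Subtype.ext (inv_mul_eq_one.1 h3)
    · rintro ⟨_, x, hx, rfl⟩
      exact ⟨⟨x, hx⟩, rfl⟩
  obtain ⟨g, hg, hgE⟩ := Sub32.exists_conj_P hE hel (by
    rw [hcard, I.cardA, w_eq I]
    norm_num)
  refine ⟨(MulAut.conj g).toMonoidHom.comp τ, ?_, ?_, ?_, ?_, ?_, ?_⟩
  · intro h
    exact mul_mem (mul_mem hg (hD h)) (inv_mem hg)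
  · intro h
    rw [← hk]
    constructor
    · intro e
      have e' : g * τ h * g⁻¹ = 1 := e
      rw [mul_inv_eq_one] at e'
      exact mul_eq_left.1 e'
    · intro e
      show g * τ h * g⁻¹ = 1
      rw [e, mul_one, mul_inv_cancel]
  · intro l hl
    exact KFacts.MM.OutAut.conj_mem22 hg (hL l hl)
  · intro m hm
    have h1 := KFacts.MM.OutAut.conj_mem22 (inv_mem hg) hm
    rw [inv_inv] at h1
    obtain ⟨l, hl, e⟩ := hs _ h1
    refine ⟨l, hl, ?_⟩
    show g * τ l * g⁻¹ = m
    rw [e]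
    group
  · intro x hx
    exact (hgE (τ x)).1 ⟨x, hx, rfl⟩
  · intro p hp
    have h1 : g⁻¹ * p * g ∈ A.map τ := by
      rw [hgE]
      have e : g * (g⁻¹ * p * g) * g⁻¹ = p := by group
      rw [e]
      exact hp
    obtain ⟨x, hx, e⟩ := h1
    refine ⟨x, hx, ?_⟩
    show g * τ x * g⁻¹ = p
    rw [e]
    group

/-- `L` is not isomorphic to `M22` -/
theorem no_M22 [Finite H] [Finite V] (I : Inp f A L a w)
    (hZ : ∀ l ∈ L, (∀ l' ∈ L, l * l' = l' * l) → l = 1) : False := by
  have hn := I.nL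
  obtain ⟨σ, hD, hk, hL, hs, hA, hP⟩ := exists_sigma I
  have hs' : ∀ m, m ∈ Spor.M22 → ∃ l, l ∈ L ∧ σ l = m := fun m hm => by
    obtain ⟨l, hl, e⟩ := hs m hm
    exact ⟨l, hl, e⟩
  choose! s hsL using hs'
  have inj : ∀ x ∈ L, ∀ y ∈ L, σ x = σ y → x = y := by
    intro x hx y hy e
    have h1 : σ (x⁻¹ * y) = 1 := by
      rw [map_mul, map_inv, e, inv_mul_cancel]
    exact inv_mul_eq_one.1 (hZ _ (mul_mem (inv_mem hx) hy) ((hk _).1 h1))
  have smul' : ∀ x ∈ Spor.M22, ∀ y ∈ Spor.M22, s (x * y) = s x * s y := by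
    intro x hx y hy
    apply inj _ (hsL _ (mul_mem hx hy)).1 _ (mul_mem (hsL x hx).1 (hsL y hy).1)
    rw [map_mul, (hsL _ (mul_mem hx hy)).2, (hsL x hx).2, (hsL y hy).2]
  have sinv : ∀ x ∈ Spor.M22, s x⁻¹ = (s x)⁻¹ := by
    intro x hx
    apply inj _ (hsL _ (inv_mem hx)).1 _ (inv_mem (hsL x hx).1)
    rw [map_inv, (hsL _ (inv_mem hx)).2, (hsL x hx).2]
  have sσ : ∀ l ∈ L, s (σ l) = l := by
    intro l hl
    exact inj _ (hsL _ (hL l hl)).1 _ hl (hsL _ (hL l hl)).2
  -- elements of order at most two of `C_H(L)`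
  have hC : ∀ c : H, (∀ l ∈ L, c * l = l * c) → c * c = 1 → c = 1 := by
    intro c hc h2
    have hm : c ∈ centralizer (L : Set H) := mem_centralizer_iff.2 fun l hl => (hc l hl).symm
    have h3 : (⟨c, hm⟩ : centralizer (L : Set H)) ^ 2 = 1 := by
      apply Subtype.ext
      show c ^ 2 = 1
      rw [pow_two, h2]
    have h4 := orderOf_dvd_of_pow_eq_one h3
    have h5 := orderOf_dvd_natCard (⟨c, hm⟩ : centralizer (L : Set H))
    have h6 : orderOf (⟨c, hm⟩ : centralizer (L : Set H)) = 1 := by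
      rcases card_C I with h7 | h7
      · rw [h7] at h5
        exact Nat.dvd_one.1 h5
      · rw [h7] at h5
        have := Nat.dvd_gcd h4 h5
        exact Nat.dvd_one.1 this
    rw [orderOf_eq_one_iff] at h6
    exact congrArg Subtype.val h6
  -- `s(W) ≤ A`
  have sW : ∀ x ∈ W, s x ∈ A := by
    intro x hx
    have hxM : x ∈ Spor.M22 := KFacts.MM.Cent.W_le22 hx
    obtain ⟨x', hx', e⟩ := hP x (W_le_P hx)
    have h1 : σ ((s x)⁻¹ * x') = 1 := by
      rw [map_mul, map_inv, e, (hsL x hxM).2, inv_mul_cancel]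
    have h2 := (hk _).1 h1
    have h3 : s x * s x = 1 := by
      rw [← smul' x hxM x hxM, elW x hx]
      apply inj _ (hsL _ (one_mem _)).1 _ (one_mem L)
      rw [(hsL _ (one_mem _)).2, map_one]
    have h3' : (s x)⁻¹ = s x := inv_eq_of_mul_eq_one_left h3
    have h4 : (s x)⁻¹ * x' = 1 := by
      apply hC _ h2
      have h5 := h2 (s x) (hsL x hxM).1
      rw [h3'] at h5 ⊢
      calc s x * x' * (s x * x') = (s x * x' * s x) * x' := by group
        _ = s x * (s x * x') * x' := by rw [h5]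
        _ = (s x * s x) * (x' * x') := by group
        _ = 1 := by rw [h3, I.elA x' hx', one_mul]
    rw [inv_mul_eq_one.1 h4]
    exact hx'
  -- `N(W)` fixes `a`
  have nA : ∀ n ∈ Spor.M22, Nrm n W → s n • a = a := by
    intro n hn' hN
    have h1 : ∀ x ∈ A, (s n)⁻¹ * x * s n ∈ A := by
      intro x hx
      set l : H := (s n)⁻¹ * (x * s n * x⁻¹) with hl
      have hlL : l ∈ L := mul_mem (inv_mem (hsL n hn').1) (hn.conj_mem _ (hsL n hn').1 x)
      have e1 : (s n)⁻¹ * x * s n = l * x := by rw [hl]; group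
      have hNP : Nrm n P := (nrm_P_iff (M22_le_D22 hn')).2 hN
      have h2 : σ l ∈ P := by
        have e2 : l = (s n)⁻¹ * x * s n * x⁻¹ := by rw [hl]; group
        rw [e2, map_mul, map_mul, map_mul, map_inv, map_inv, (hsL n hn').2]
        exact mul_mem (KFacts.MM.Cent.nrm_inv hNP (hA x hx)) (inv_mem (hA x hx))
      have h3 : σ l ∈ W := PK h2 (hL l hlL)
      have h4 := sW _ h3
      rw [sσ l hlL] at h4
      rw [e1]
      exact mul_mem h4 hx
    rcases I.CA (s n • a) (by
      intro x hx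
      have h2 := I.aA _ (h1 x hx)
      rw [mul_smul, mul_smul, inv_smul_eq_iff] at h2
      exact h2) with h | h
    · exfalso
      exact I.a0 ((smul_eq_zero_iff_eq _).1 h)
    · exact h
  let F : Equiv.Perm GolayPt → ZMod 2 := fun g => f a (s g • a)
  have h01 : ∀ x : ZMod 2, x = 0 ∨ x = 1 := by decide
  have F_dbl : ∀ y ∈ Spor.M22, Nrm y W → ∀ m ∈ Spor.M22, Nrm m W → ∀ g ∈ Spor.M22,
      F (y * g * m) = F g := by
    intro y hy hyN m hm hmN g hg
    show f a (s (y * g * m) • a) = f a (s g • a)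
    rw [smul' _ (mul_mem hy hg) m hm, smul' y hy g hg, mul_smul, mul_smul, nA m hm hmN]
    conv_lhs => rw [← nA y hy hyN]
    rw [nA y hy hyN]
    have h1 := I.finv (s y) a (s g • a)
    rw [nA y hy hyN] at h1
    exact h1
  have F_c : ∀ g ∈ Spor.M22, F g = 1 → c160 g := by
    intro g hg h
    by_contra hcon
    obtain ⟨x, hx, hx1, hN⟩ := of_not_c160 hg hcon
    have hxM : x ∈ Spor.M22 := KFacts.MM.Cent.W_le22 hx
    have h1 := nA _ (mul_mem (mul_mem (inv_mem hg) hxM) hg) hN
    rw [smul' _ (mul_mem (inv_mem hg) hxM) g hg, smul' _ (inv_mem hg) x hxM, sinv g hg, mul_smul,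
      mul_smul, inv_smul_eq_iff] at h1
    have h2 := I.semi _ h (s x) (sW x hx) h1
    apply hx1
    rw [← (hsL x hxM).2, h2, map_one]
  have F_ex : ∃ g ∈ Spor.M22, F g = 1 := by
    by_contra hcon
    push Not at hcon
    let K : AddSubgroup V :=
      { carrier := {v | f a v = 0}
        zero_mem' := by
          show f a 0 = 0
          have h1 := I.fadd a 0 0
          rw [add_zero] at h1
          exact left_eq_add.1 h1
        add_mem' := fun {u v} (hu : f a u = 0) (hv : f a v = 0) => by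
          show f a (u + v) = 0
          rw [I.fadd, hu, hv, add_zero]
        neg_mem' := fun {u} (hu : f a u = 0) => by
          show f a (-u) = 0
          rw [neg_eq_iff_add_eq_zero.2 (I.two u)]
          exact hu }
    let U : AddSubgroup V := AddSubgroup.closure {x | ∃ l ∈ L, x = l • a}
    have hUK : U ≤ K := by
      rw [AddSubgroup.closure_le]
      rintro x ⟨l, hl, rfl⟩
      show f a (l • a) = 0
      have h1 := hcon (σ l) (hL l hl)
      rcases h01 (f a (l • a)) with h2 | h2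
      · exact h2
      · exfalso
        apply h1
        show f a (s (σ l) • a) = 1
        rw [sσ l hl, h2]
    have hU := irrL I U (by
      intro l hl
      have h1 : U ≤ U.comap (DistribSMul.toAddMonoidHom V l) := by
        rw [AddSubgroup.closure_le]
        rintro x ⟨l', hl', rfl⟩
        show l • l' • a ∈ U
        apply AddSubgroup.subset_closure
        exact ⟨l * l', mul_mem hl hl', (mul_smul _ _ _).symm⟩
      intro u hu
      exact h1 hu) ⟨a, AddSubgroup.subset_closure ⟨1, one_mem L, (one_smul H a).symm⟩, I.a0⟩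
    exact I.a0 (I.fnd a fun v => hUK (hU v))
  have F_g0 : F g0 = 1 := by
    obtain ⟨g, hg, h1⟩ := F_ex
    obtain ⟨y, hy, hyN, m, hm, hmN, e⟩ := dbl hg (F_c g hg h1)
    rw [← F_dbl y hy hyN m hm hmN g0 g0_mem, ← e, h1]
  have F_1 : ∀ g ∈ Spor.M22, c160 g → F g = 1 := by
    intro g hg h1
    obtain ⟨y, hy, hyN, m, hm, hmN, e⟩ := dbl hg h1
    rw [e, F_dbl y hy hyN m hm hmN g0 g0_mem, F_g0]
  -- the Gram matrix
  have hge := card_ge f I.fadd (fun i => s (gg i) • a) (by
    intro i j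
    have h1 : f (s (gg i) • a) (s (gg j) • a) = F ((gg i)⁻¹ * gg j) := by
      show _ = f a (s ((gg i)⁻¹ * gg j) • a)
      rw [smul' _ (inv_mem (gg_mem i)) _ (gg_mem j), sinv _ (gg_mem i), mul_smul]
      have h2 := I.finv (s (gg i)) a ((s (gg i))⁻¹ • s (gg j) • a)
      rw [smul_inv_smul] at h2
      exact h2
    rw [h1]
    have hmem : (gg i)⁻¹ * gg j ∈ Spor.M22 := mul_mem (inv_mem (gg_mem i)) (gg_mem j)
    unfold Gm
    by_cases hb : (Data.gM.getD i 0).testBit j = true
    · rw [if_pos hb]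
      exact F_1 _ hmem ((gram_iff i j).2 hb)
    · rw [if_neg hb]
      rcases h01 (F ((gg i)⁻¹ * gg j)) with h2 | h2
      · exact h2
      · exact absurd ((gram_iff i j).1 (F_c _ hmem h2)) hb)
  rw [cardV12 I] at hge
  norm_num at hge

/-- **the row `M22`** -/
theorem row [Finite H] [Finite V] (I : Inp f A L a w) :
    w = 6 ∧ Nat.card (center L) = 3 ∧ ∀ h : H, (∀ l ∈ L, h * l = l * h) → h ∈ L := by
  refine ⟨w_eq I, ?_⟩
  have hle : (center L).map L.subtype ≤ centralizer (L : Set H) := by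
    rintro _ ⟨c, hc, rfl⟩
    rw [mem_centralizer_iff]
    intro l hl
    exact congrArg Subtype.val (mem_center_iff.1 hc ⟨l, hl⟩)
  have hcard : Nat.card ((center L).map L.subtype) = Nat.card (center L) :=
    card_map_of_injective L.subtype_injective
  have hne : Nat.card (center L) ≠ 1 := by
    intro h1
    apply no_M22 I
    intro l hl hc
    have h2 : (⟨l, hl⟩ : L) ∈ center L := mem_center_iff.2 fun y => Subtype.ext (hc y y.2).symm
    rw [card_eq_one.1 h1] at h2
    exact congrArg Subtype.val (mem_bot.1 h2)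
  have hdvd : Nat.card (center L) ∣ Nat.card (centralizer (L : Set H)) := by
    rw [← hcard]
    exact card_dvd_of_le hle
  have h3 : Nat.card (centralizer (L : Set H)) = 3 := by
    rcases card_C I with h | h
    · rw [h] at hdvd
      exact absurd (Nat.dvd_one.1 hdvd) hne
    · exact h
  have hZ3 : Nat.card (center L) = 3 := by
    rw [h3] at hdvd
    rcases (Nat.dvd_prime Nat.prime_three).1 hdvd with h | h
    · exact absurd h hne
    · exact h
  refine ⟨hZ3, ?_⟩
  have heq : (center L).map L.subtype = centralizer (L : Set H) := by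
    apply eq_of_le_of_card_ge hle
    rw [hcard, hZ3, h3]
  intro h hh
  have hm : h ∈ centralizer (L : Set H) := mem_centralizer_iff.2 fun l hl => (hh l hl).symm
  rw [← heq] at hm
  obtain ⟨c, -, rfl⟩ := hm
  exact c.2

end Cfsg.Agent.Omega.EH3.M22.Row

end

section


/-!
# EH3, row `M22`, from the configuration `Cfg` (helper969)

`row_cfg` : if the configuration `Cfg` of EH3 occurs with a normal odd cover `L` of `K ≅ M22` in `H`
(`X ∩ C_H(L) = 1`), then `w = 6`, `|Z(L)| = 3` and `C_H(L) ≤ L`.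
-/

set_option autoImplicit false

namespace Cfsg.Agent.Omega.EH3.M22.OfCfg

open Cfsg Subgroup
open Cfsg.Agent.Omega.EH3 Cfsg.Agent.Omega.TwoF
open Cfsg.Agent.Omega.EH3.M22.Irr

universe u v

variable {H V : Type*} [Group H] [AddCommGroup V] [Module (ZMod 2) V]
  {ρ : H →* (V ≃ₗ[ZMod 2] V)} {b : LinearMap.BilinForm (ZMod 2) V} {q : V → ZMod 2}
  {a : V} {D : Submodule (ZMod 2) V} {X : Subgroup H} {w : ℕ}

/-- the action -/
abbrev actA (ρ : H →* (V ≃ₗ[ZMod 2] V)) : DistribMulAction H V := DistribMulAction.compHom V ρ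

/-- the centre of an odd cover of a centreless group; the quotient -/
theorem quot_equiv {L : Subgroup H} {K : Type*} [Group K] {π : L →* K} (hπ : OddCover π)
    (hK : center K = ⊥) : Nonempty (L ⧸ center L ≃* K) := by
  have h1 := hπ.ker_eq hK
  exact ⟨(QuotientGroup.quotientMulEquivOfEq h1.symm).trans
    (QuotientGroup.quotientKerEquivOfSurjective π hπ.surj)⟩

/-- the input of the abstract row -/
theorem inp_of_cfg (C : Cfg ρ b q a D X w) {L : Subgroup H} (hL : L.Normal) (hp : ⁅L, L⁆ = L)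
    (hi : Spor.IsoM22 (L ⧸ center L)) (hX : X ⊓ centralizer (L : Set H) = ⊥) :
    @Inp H V _ _ (actA ρ) (fun u v => b u v) X L a w := by
  let := actA ρ
  have hsm : ∀ (h : H) (v : V), h • v = ρ h v := fun _ _ => rfl
  refine
    { two := C.add_self
      faith := fun h hh => C.ext (fun v => by rw [C.ρ_one]; exact hh v)
      irr := ?_
      fadd := fun u v v' => map_add _ _ _
      finv := fun h u v => C.b_inv h u v
      fnd := C.nondeg
      hw := C.six
      cardV := C.card_V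
      elA := C.X_sq
      cardA := C.card_X
      a0 := C.a_ne
      aA := fun x hx => C.X_a hx
      CA := fun v hv => C.fixed_X hv
      semi := ?_
      nL := hL
      perf := hp
      iso := hi
      AL := ?_ }
  · intro U hU hne v
    let W : Submodule (ZMod 2) V :=
      { carrier := U
        zero_mem' := U.zero_mem
        add_mem' := fun hx hy => U.add_mem hx hy
        smul_mem' := fun c x hx => by
          rcases zmod_two c with h | h
          · rw [h, zero_smul]; exact U.zero_mem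
          · rw [h, one_smul]; exact hx }
    rcases C.irr W (fun h v hv => hU h v hv) with h | h
    · exfalso
      obtain ⟨u, hu, hu0⟩ := hne
      have h1 : u ∈ W := hu
      rw [h, Submodule.mem_bot] at h1
      exact hu0 h1
    · have h1 : v ∈ W := by rw [h]; trivial
      exact h1
  · intro v hv x hx hxv
    apply C.X_semi x hx v hv
    rw [show ρ x v = v from hxv, C.add_self]
    exact D.zero_mem
  · intro x hx hc
    have h1 : x ∈ X ⊓ centralizer (L : Set H) :=
      ⟨hx, mem_centralizer_iff.2 fun l hl => (hc l hl).symm⟩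
    rw [hX] at h1
    exact mem_bot.1 h1

/-- **the row `M22` from `Cfg`** -/
theorem row_cfg' (C : Cfg ρ b q a D X w) {L : Subgroup H} (hL : L.Normal) (hp : ⁅L, L⁆ = L)
    (hi : Spor.IsoM22 (L ⧸ center L)) (hX : X ⊓ centralizer (L : Set H) = ⊥) :
    w = 6 ∧ Nat.card (center L) = 3 ∧ ∀ h : H, (∀ l ∈ L, h * l = l * h) → h ∈ L := by
  have := C.finite_H
  have := C.finite_V
  exact @Row.row H V _ _ (actA ρ) _ X L a w _ _ (inp_of_cfg C hL hp hi hX)

/-- **the row `M22` from `Cfg`, with an odd cover** -/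
theorem row_cfg {K : Type*} [Group K] (hK : Spor.IsoM22 K) (C : Cfg ρ b q a D X w) {L : Subgroup H}
    {π : L →* K} (hL : L.Normal) (hπ : OddCover π) (hX : X ⊓ centralizer (L : Set H) = ⊥) :
    w = 6 ∧ Nat.card (center L) = 3 ∧ Spor.IsoM22 (L ⧸ center L) ∧
      ∀ h : H, (∀ l ∈ L, h * l = l * h) → h ∈ L := by
  obtain ⟨e⟩ := hK
  have hsK : IsSimpleGroup K :=
    have := SporadicA.MathieuRecog.simple_M22
    e.isSimpleGroup
  have hcK : center K = ⊥ := by
    rcases hsK.eq_bot_or_eq_top_of_normal (center K) inferInstance with h | h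
    · exact h
    · exfalso
      have hc : ∀ x y : K, x * y = y * x := fun x y => by
        have : x ∈ center K := by rw [h]; trivial
        exact (mem_center_iff.1 this y).symm
      have hc' : commutator K = ⊥ := by
        rw [commutator_def, commutator_eq_bot_iff_le_centralizer]
        intro x _
        rw [mem_centralizer_iff]
        intro y _
        exact (hc x y).symm
      have h1 : (commutator L).map π = commutator K := by
        rw [commutator_def, commutator_def, map_commutator, ← MonoidHom.range_eq_map,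
          MonoidHom.range_eq_top.2 hπ.surj]
      rw [hπ.perf, hc', ← MonoidHom.range_eq_map, MonoidHom.range_eq_top.2 hπ.surj] at h1
      exact top_ne_bot h1
  obtain ⟨e'⟩ := quot_equiv hπ hcK
  have hi : Spor.IsoM22 (L ⧸ center L) := ⟨e'.trans e⟩
  have hp : ⁅L, L⁆ = L := by
    have h1 := hπ.perf
    rw [commutator_def] at h1
    have h2 : (⁅(⊤ : Subgroup L), (⊤ : Subgroup L)⁆).map L.subtype = (⊤ : Subgroup L).map L.subtype := by rw [h1]
    rw [map_commutator, ← MonoidHom.range_eq_map, range_subtype] at h2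
    exact h2
  obtain ⟨h1, h2, h3⟩ := row_cfg' C hL hp hi hX
  exact ⟨h1, h2, hi, h3⟩

end Cfsg.Agent.Omega.EH3.M22.OfCfg

end

end

-- merged: Cfsg.Agent.Mrg.Omega.EH3.MTwentyTwo.Exit
section

section


/-!
# OMEGA / EH3: from `F*(C(z)/Q) = 3·M₂₂` to the hypotheses of S1670 (helper893)

`p : Pair Q z A a`, `|Q| = 2^13`, `|p.D| = 2^6`, `H = p.H` (the image of `C_G(z)` in `GL(Q/⟨z⟩)`), `L` a normal
subgroup of index 2 of `H`, perfect, `|Z(L)| = 3`, `L / Z(L) ≅ M₂₂`, `C_H(L) ≤ L`.  Then the preimages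
`Q ≤ N ≤ M` of `1`, `Z(L)`, `L` in `C_G(z)` satisfy the hypotheses `J4Type.Hyp` of S1646 / S1670.
-/

set_option autoImplicit false

namespace Cfsg.Agent.Omega.EH3.MTwentyTwo.Exit

open Cfsg Cfsg.Agent.Co2Type.Quad Cfsg.Agent.LargeExtra.Base Cfsg.Agent.LargeExtra.Local
open Cfsg.Agent.LargeExtra.Nine
open scoped commutatorElement

/-! ### An abstract form -/

section abs

variable {C H : Type*} [Group C] [Group H]

/-- the preimage of the centre of `L` -/
def N (f : C →* H) (L : Subgroup H) : Subgroup C := ((Subgroup.center L).map L.subtype).comap f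

theorem mem_N {f : C →* H} {L : Subgroup H} {c : C} :
    c ∈ N f L ↔ f c ∈ L ∧ ∀ l ∈ L, f c * l = l * f c := by
  unfold N
  rw [Subgroup.mem_comap, Subgroup.mem_map]
  constructor
  · rintro ⟨x, hx, h⟩
    rw [← h]
    refine ⟨x.2, fun l hl => ?_⟩
    exact (congrArg Subtype.val (Subgroup.mem_center_iff.1 hx ⟨l, hl⟩)).symm
  · rintro ⟨h1, h2⟩
    refine ⟨⟨f c, h1⟩, ?_, rfl⟩
    rw [Subgroup.mem_center_iff]
    intro l
    exact Subtype.ext (h2 l l.2).symm

variable {f : C →* H} {L : Subgroup H}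

theorem N_normal [hL : L.Normal] : (N f L).Normal where
  conj_mem := by
    intro c hc g
    rw [mem_N] at hc ⊢
    rw [map_mul, map_mul, map_inv]
    refine ⟨hL.conj_mem _ hc.1 _, fun l hl => ?_⟩
    have h1 := hc.2 _ (hL.conj_mem l hl (f g)⁻¹)
    rw [inv_inv] at h1
    calc f g * f c * (f g)⁻¹ * l = f g * (f c * ((f g)⁻¹ * l * f g)) * (f g)⁻¹ := by group
      _ = f g * ((f g)⁻¹ * l * f g * f c) * (f g)⁻¹ := by rw [h1]
      _ = l * (f g * f c * (f g)⁻¹) := by group

theorem N_le : N f L ≤ L.comap f := fun _ hc => (mem_N.1 hc).1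

theorem ker_le : f.ker ≤ N f L := by
  intro c hc
  rw [MonoidHom.mem_ker] at hc
  rw [mem_N, hc]
  exact ⟨L.one_mem, fun l _ => by rw [one_mul, mul_one]⟩

theorem comm_le : ⁅L.comap f, N f L⁆ ≤ f.ker := by
  rw [Subgroup.commutator_le]
  intro m hm n hn
  rw [MonoidHom.mem_ker, commutatorElement_def, map_mul, map_mul, map_mul, map_inv, map_inv,
    ← (mem_N.1 hn).2 _ (Subgroup.mem_comap.1 hm)]
  group

theorem card_N [Finite C] (hf : Function.Surjective f) :
    Nat.card (N f L) = Nat.card (Subgroup.center L) * Nat.card f.ker := by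
  have h1 : Nat.card ((Subgroup.center L).map L.subtype) = Nat.card (Subgroup.center L) :=
    Subgroup.card_map_of_injective L.subtype_injective
  have hH : Finite H := Finite.of_surjective f hf
  have h2 : (N f L).index = ((Subgroup.center L).map L.subtype).index :=
    Subgroup.index_comap_of_surjective _ hf
  have h3 := (N f L).card_mul_index
  have h4 := ((Subgroup.center L).map L.subtype).card_mul_index
  have h5 := f.ker.card_mul_index
  have h6 : f.ker.index = Nat.card H := by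
    rw [Subgroup.index_ker, MonoidHom.range_eq_top.2 hf, Subgroup.card_top]
  rw [h6, ← h4, h1, ← h3, h2] at h5
  have h7 : 0 < ((Subgroup.center L).map L.subtype).index := Nat.pos_of_ne_zero Subgroup.index_ne_zero_of_finite
  apply Nat.eq_of_mul_eq_mul_right h7
  rw [← h5]
  ring

theorem perf (hf : Function.Surjective f) (hL : ⁅L, L⁆ = L) :
    L.comap f ≤ ⁅L.comap f, L.comap f⁆ ⊔ f.ker := by
  intro m hm
  have h1 : (⁅L.comap f, L.comap f⁆).map f = L := by
    rw [Subgroup.map_commutator, Subgroup.map_comap_eq_self_of_surjective hf, hL]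
  have h2 : f m ∈ (⁅L.comap f, L.comap f⁆).map f := by
    rw [h1]; exact hm
  obtain ⟨m', hm', h3⟩ := h2
  have h4 : m'⁻¹ * m ∈ f.ker := by
    rw [MonoidHom.mem_ker, map_mul, map_inv, h3, inv_mul_cancel]
  have h5 : m = m' * (m'⁻¹ * m) := by group
  rw [h5]
  exact mul_mem (Subgroup.mem_sup_left hm') (Subgroup.mem_sup_right h4)

/-- an element commuting with `L` modulo the centre of the perfect group `L` centralises `L` -/
theorem cent_of (hL : ⁅L, L⁆ = L) {x : H}
    (h : ∀ l ∈ L, x * l * x⁻¹ * l⁻¹ ∈ L ∧ ∀ k ∈ L, (x * l * x⁻¹ * l⁻¹) * k = k * (x * l * x⁻¹ * l⁻¹))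
    {l : H} (hl : l ∈ L) : x * l = l * x := by
  have h1 : ⁅L, L⁆ ≤ Subgroup.centralizer ({x} : Set H) := by
    rw [Subgroup.commutator_le]
    intro u hu v hv
    rw [Subgroup.mem_centralizer_singleton_iff]
    obtain ⟨-, hu1⟩ := h u hu
    obtain ⟨hvL, hv1⟩ := h v hv
    generalize hζ : x * u * x⁻¹ * u⁻¹ = ζ at hu1
    generalize hη : x * v * x⁻¹ * v⁻¹ = η at hv1 hvL
    have e1 : x * u * x⁻¹ = ζ * u := by rw [← hζ]; group
    have e2 : x * v * x⁻¹ = η * v := by rw [← hη]; group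
    have c1 : Commute (ζ * η) u := (Commute.mul_left (hu1 u hu) (hv1 u hu) : Commute (ζ * η) u)
    have c2 : Commute (ζ * η) v := (Commute.mul_left (hu1 v hv) (hv1 v hv) : Commute (ζ * η) v)
    have e3 : x * ⁅u, v⁆ * x⁻¹ = ⁅u, v⁆ := by
      have e4 : x * ⁅u, v⁆ * x⁻¹ =
          ((x * u * x⁻¹) * (x * v * x⁻¹)) * ((x * v * x⁻¹) * (x * u * x⁻¹))⁻¹ := by
        rw [commutatorElement_def]; group
      have e5 : (ζ * u) * (η * v) = (ζ * η) * (u * v) := by
        rw [mul_assoc, ← mul_assoc u η v, ← hv1 u hu]; group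
      have e6 : (η * v) * (ζ * u) = (ζ * η) * (v * u) := by
        rw [mul_assoc, ← mul_assoc v ζ u, ← hu1 v hv, hu1 η hvL]; group
      have e7 : Commute (ζ * η) ((u * v) * (v * u)⁻¹) :=
        (c1.mul_right c2).mul_right (c2.mul_right c1).inv_right
      rw [e4, e1, e2, e5, e6, mul_inv_rev, commutatorElement_def]
      calc ζ * η * (u * v) * ((v * u)⁻¹ * (ζ * η)⁻¹) = ((ζ * η) * ((u * v) * (v * u)⁻¹)) * (ζ * η)⁻¹ := by
            group
        _ = (((u * v) * (v * u)⁻¹) * (ζ * η)) * (ζ * η)⁻¹ := by rw [e7.eq]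
        _ = u * v * u⁻¹ * v⁻¹ := by group
    exact (mul_inv_eq_iff_eq_mul.1 e3).symm
  have h2 := Subgroup.mem_centralizer_singleton_iff.1 (h1 (hL.symm ▸ hl))
  exact h2.symm

/-- the quotient of the preimages -/
theorem exists_equiv (hf : Function.Surjective f) [(N f L).Normal] [((N f L).subgroupOf (L.comap f)).Normal] :
    Nonempty (↥(L.comap f) ⧸ (N f L).subgroupOf (L.comap f) ≃* L ⧸ Subgroup.center L) := by
  let g : ↥(L.comap f) →* L := f.subgroupComap L
  have hg : Function.Surjective g := by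
    intro l
    obtain ⟨c, hc⟩ := hf l
    exact ⟨⟨c, by rw [Subgroup.mem_comap, hc]; exact l.2⟩, Subtype.ext hc⟩
  let g' : ↥(L.comap f) →* L ⧸ Subgroup.center L := (QuotientGroup.mk' _).comp g
  have hg' : Function.Surjective g' := (QuotientGroup.mk'_surjective _).comp hg
  have hker : g'.ker = (N f L).subgroupOf (L.comap f) := by
    ext c
    rw [MonoidHom.mem_ker, Subgroup.mem_subgroupOf, mem_N]
    show (QuotientGroup.mk' _) (g c) = 1 ↔ _
    rw [QuotientGroup.mk'_apply, QuotientGroup.eq_one_iff, Subgroup.mem_center_iff]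
    constructor
    · intro h
      exact ⟨c.2, fun l hl => (congrArg Subtype.val (h ⟨l, hl⟩)).symm⟩
    · intro h l
      exact Subtype.ext (h.2 l l.2).symm
  exact ⟨(QuotientGroup.quotientMulEquivOfEq hker.symm).trans
    (QuotientGroup.quotientKerEquivOfSurjective g' hg')⟩

end abs

/-! ### The hypotheses of S1670 -/

variable {G : Type*} [Group G] {Q A : Subgroup G} {z a : G}

/-- **the exit `F*(C(z)/Q) = 3·M₂₂`** -/
theorem hyp [Finite G] (p : Pair Q z A a) (hQ : Nat.card Q = 2 ^ 13) (hD : Nat.card p.D = 2 ^ 6)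
    (L : Subgroup p.H) [L.Normal] (hi : L.index = 2) (hZ : Nat.card (Subgroup.center L) = 3)
    (hL : ⁅L, L⁆ = L) (hiso : Spor.IsoM22 (L ⧸ Subgroup.center L))
    (hcent : Subgroup.centralizer (L : Set p.H) ≤ L) :
    ∃ N M : Subgroup (Subgroup.centralizer ({z} : Set G)),
      J4Type.Hyp z (Q.subgroupOf (Subgroup.centralizer ({z} : Set G))) N M := by
  have : (Q.subgroupOf (Subgroup.centralizer ({z} : Set G))).Normal := ToCent.normal p.lz
  let f : Subgroup.centralizer ({z} : Set G) →* p.H := p.lz.act.rangeRestrict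
  have hf : Function.Surjective f := p.lz.act.rangeRestrict_surjective
  have hker : f.ker = Q.subgroupOf (Subgroup.centralizer ({z} : Set G)) := by
    rw [← ToCent.ker_act p.lz]
    exact p.lz.act.ker_rangeRestrict
  have hN : (N f L).Normal := N_normal
  have hM : (L.comap f).Normal := inferInstance
  refine ⟨N f L, L.comap f, J4Type.Hyp.of_raw z (orderOf_z p.lz) _ (N f L) (L.comap f) ?_ N_le ?_
    (ToCent.isExtraspecial p.lz ?_) ?_ ?_ ?_ ?_ ?_ (ToCent.centralizer_le p.lz) ?_ ?_⟩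
  · rw [← hker]; exact ker_le
  · rw [Subgroup.index_comap_of_surjective _ hf, hi]
  · rw [hQ]; norm_num
  · rw [ToCent.card_subgroupOf p.lz, hQ]
  · obtain ⟨E, hE, hEc⟩ := ToCent.exists_elem p
    exact ⟨E, hE, by rw [hEc, hD]; norm_num⟩
  · rw [← hker, card_N hf, hZ]
  · rw [← hker]; exact comm_le
  · rw [← hker]; exact perf hf hL
  · intro c hc
    rw [Subgroup.mem_comap]
    apply hcent
    rw [Subgroup.mem_centralizer_iff]
    intro l hl
    symm
    refine cent_of hL (fun l hl => ?_) hl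
    obtain ⟨m, rfl⟩ := hf l
    have h1 := mem_N.1 (hc m hl)
    rw [map_mul, map_mul, map_mul, map_inv, map_inv] at h1
    exact h1
  · obtain ⟨e⟩ := hiso
    obtain ⟨e'⟩ := exists_equiv (f := f) (L := L) hf
    exact ⟨e'.trans e⟩

end Cfsg.Agent.Omega.EH3.MTwentyTwo.Exit

end

section


/-!
# EH3, row `M22`: from the configuration to the hypotheses of S1670 (helper893)

`index_two` : in the configuration of EH3 with a normal odd cover `L` of `M22`, `X ∩ C_H(L) = 1`, `L` has index 2 in `H`.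
`hyp_of_cfg` : for a pair `p`, the centraliser of `z` then satisfies the hypotheses `J4Type.Hyp` of S1670.
-/

set_option autoImplicit false

namespace Cfsg.Agent.Omega.EH3.MTwentyTwo.Glue

open Cfsg Subgroup Cfsg.Agent.Co2Type.Quad Cfsg.Agent.LargeExtra.Base Cfsg.Agent.LargeExtra.Local
open Cfsg.Agent.Omega.EH3.M22.Irr Cfsg.Agent.Omega.TwoF
open Cfsg.Agent.KFacts.MM.Sub Cfsg.Agent.KFacts.MM.OutP
open Cfsg.Agent.J4Type.Aut22 (D22 mem_D22_iff M22_le_D22)

/-- `L` has index 2 in `H` (abstract form) -/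
theorem index_two_inp {H V : Type*} [Group H] [AddCommGroup V] [DistribMulAction H V] {f : V → V → ZMod 2}
    {A L : Subgroup H} {a : V} {w : ℕ} [Finite H] [Finite V] (I : Inp f A L a w) : L.index = 2 := by
  obtain ⟨σ, hD, hk, hL, hs, hA, hP⟩ := M22.Row.exists_sigma I
  obtain ⟨-, -, hC⟩ := M22.Row.row I
  have hiff : ∀ h : H, h ∈ L ↔ σ h ∈ Spor.M22 := by
    intro h
    constructor
    · exact hL h
    · intro hh
      obtain ⟨l, hl, e⟩ := hs _ hh
      have h1 : σ (l⁻¹ * h) = 1 := by rw [map_mul, map_inv, e, inv_mul_cancel]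
      have h2 := mul_mem hl (hC _ ((hk _).1 h1))
      rwa [mul_inv_cancel_left] at h2
  obtain ⟨x, hx, e⟩ := hP b b_mem
  rw [Subgroup.index_eq_two_iff]
  refine ⟨x, fun h => ?_⟩
  rw [hiff, hiff, map_mul, e]
  by_cases hh : σ h ∈ Spor.M22
  · right
    refine ⟨hh, fun h2 => b_not_M22 ?_⟩
    have h3 := mul_mem (inv_mem hh) h2
    rwa [inv_mul_cancel_left] at h3
  · left
    exact ⟨out_b (hD h) hh, hh⟩

/-- `L` has index 2 in `H` -/
theorem index_two {H V : Type*} [Group H] [AddCommGroup V] [Module (ZMod 2) V]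
    {ρ : H →* (V ≃ₗ[ZMod 2] V)} {b : LinearMap.BilinForm (ZMod 2) V} {q : V → ZMod 2} {a : V}
    {D : Submodule (ZMod 2) V} {X : Subgroup H} {w : ℕ} (C : Cfg ρ b q a D X w) {L : Subgroup H} (hL : L.Normal)
    (hp : ⁅L, L⁆ = L) (hi : Spor.IsoM22 (L ⧸ center L)) (hX : X ⊓ centralizer (L : Set H) = ⊥) :
    L.index = 2 := by
  have := C.finite_H
  have := C.finite_V
  exact @index_two_inp H V _ _ (M22.OfCfg.actA ρ) _ X L a w _ _ (M22.OfCfg.inp_of_cfg C hL hp hi hX)

variable {G : Type*} [Group G] {Q A : Subgroup G} {z a : G}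

/-- **the row `M22` and its exit**: the hypotheses of S1670 -/
theorem hyp_of_cfg [Finite G] (p : Pair Q z A a) {w : ℕ}
    (C : Cfg (p.H.subtype : p.H →* (p.lz.V ≃ₗ[ZMod 2] p.lz.V)) p.lz.b p.lz.q p.va p.D (p.X.subgroupOf p.H) w)
    {K : Type*} [Group K] (hK : Spor.IsoM22 K) (L : Subgroup p.H) [hLn : L.Normal] {π : L →* K} (hπ : OddCover π)
    (hX : p.X.subgroupOf p.H ⊓ centralizer (L : Set p.H) = ⊥) :
    ∃ N M : Subgroup (Subgroup.centralizer ({z} : Set G)),
      J4Type.Hyp z (Q.subgroupOf (Subgroup.centralizer ({z} : Set G))) N M := by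
  obtain ⟨hw, hZ3, hi, hC⟩ := M22.OfCfg.row_cfg hK C hLn hπ hX
  have hp : ⁅L, L⁆ = L := by
    have h1 := hπ.perf
    rw [commutator_def] at h1
    have h2 : (⁅(⊤ : Subgroup L), (⊤ : Subgroup L)⁆).map L.subtype = (⊤ : Subgroup L).map L.subtype := by rw [h1]
    rw [map_commutator, ← MonoidHom.range_eq_map, range_subtype] at h2
    exact h2
  subst hw
  have hQ : Nat.card Q = 2 ^ 13 := by
    rw [p.lz.card_eq, C.card_V]
    norm_num
  exact Exit.hyp p hQ C.card_D L (index_two C hLn hp hi hX) hZ3 hp hi fun h hh =>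
    hC h fun l hl => (mem_centralizer_iff.1 hh l hl).symm

end Cfsg.Agent.Omega.EH3.MTwentyTwo.Glue

end

end

-- merged: Cfsg.Agent.Mrg.Omega.EH3.MTwentyTwo.ExitJ4
section

/-!
# OMEGA / EH3: `F*(C(z)/Q) = 3·M₂₂`, width 6, gives `J₄` (helper893)
-/

set_option autoImplicit false

namespace Cfsg.Agent.Omega.EH3.MTwentyTwo.ExitJ4

open Subgroup Cfsg Cfsg.Agent.Co2Type.Quad Cfsg.Agent.LargeExtra.Base Cfsg.Agent.LargeExtra.Local
open Cfsg.Agent.Omega.TwoF Cfsg.Agent.Omega.KFacts Cfsg.Agent.Omega.EH3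

variable {G : Type*} [Group G] {Q A : Subgroup G} {z a : G}

/-- **the exit `F*(C(z)/Q) = 3·M₂₂`** -/
theorem isoJ4 [Finite G] [IsSimpleGroup G] (p : Pair Q z A a) (hQ : Nat.card Q = 2 ^ 13)
    (hD : Nat.card p.D = 2 ^ 6) (L : Subgroup p.H) [L.Normal] (hi : L.index = 2)
    (hZ : Nat.card (Subgroup.center L) = 3) (hL : ⁅L, L⁆ = L)
    (hiso : Spor.IsoM22 (L ⧸ Subgroup.center L)) (hcent : Subgroup.centralizer (L : Set p.H) ≤ L) :
    Spor.IsoJ4 G := by
  obtain ⟨N, M, H⟩ := Exit.hyp p hQ hD L hi hZ hL hiso hcent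
  obtain ⟨f, hf⟩ := J4Type.Top.main H
  exact ⟨(MulEquiv.ofBijective f hf).symm⟩

/-- **the row `M22` of the main case gives `J₄`** -/
theorem isoJ4_of_cfg [Finite G] [IsSimpleGroup G] (p : Pair Q z A a) {w : ℕ}
    (C : Cfg (p.H.subtype : p.H →* (p.lz.V ≃ₗ[ZMod 2] p.lz.V)) p.lz.b p.lz.q p.va p.D (p.X.subgroupOf p.H) w)
    {K : Type*} [Group K] (hK : Spor.IsoM22 K) (L : Subgroup p.H) [L.Normal] {π : L →* K} (hπ : OddCover π)
    (hX : p.X.subgroupOf p.H ⊓ centralizer (L : Set p.H) = ⊥) : Spor.IsoJ4 G := by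
  obtain ⟨N, M, H⟩ := Glue.hyp_of_cfg p C hK L hπ hX
  obtain ⟨f, hf⟩ := J4Type.Top.main H
  exact ⟨(MulEquiv.ofBijective f hf).symm⟩

/-- the same for `L / Z(L)` -/
theorem isoJ4_of_quotient [Finite G] [IsSimpleGroup G] (p : Pair Q z A a) {w : ℕ}
    (C : Cfg (p.H.subtype : p.H →* (p.lz.V ≃ₗ[ZMod 2] p.lz.V)) p.lz.b p.lz.q p.va p.D (p.X.subgroupOf p.H) w)
    (L : Subgroup p.H) [L.Normal] (hL : commutator L = ⊤) (hodd : Odd (Nat.card (center L)))
    (hX : p.X.subgroupOf p.H ⊓ centralizer (L : Set p.H) = ⊥) (hK : Spor.IsoM22 (L ⧸ center L)) : Spor.IsoJ4 G :=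
  isoJ4_of_cfg p C hK L (oddCover_mk hL hodd) hX

end Cfsg.Agent.Omega.EH3.MTwentyTwo.ExitJ4

end
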